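import Groth.Agent.RedRankLib.TMap
import Groth.Agent.RedCharZeroLib.TorusSplit
import Groth.Agent.DiagRepLib.Main
import Groth.Agent.TransporterLib.ClosedImm
import Groth.Agent.HomCorrLib.Bridge
import Groth.Agent.WeilLib.Dim

/-!
Split tori over a field: dimensions and monomorphisms.
-/

set_option autoImplicit false

noncomputable section

universe u

open CategoryTheory CategoryTheory.Limits MonoidalCategory CartesianMonoidalCategory AlgebraicGeometry CoactBr
open scoped MonObj

namespace Groth.Agent.RedRank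

attribute [local instance] CoactBr.braidedAlgSpecOf

variable {K : Type u} [Field K]

theorem ringKrullDim_TA (n : ℕ) : ringKrullDim (TA K n) = n := by
  let P := MvPolynomial (Fin n) K
  let F := FractionRing (TA K n)
  haveI : IsDomain (TA K n) := NoZeroDivisors.to_isDomain _
  let x : Fin n → TA K n := fun i => MonoidAlgebra.single (Multiplicative.ofAdd (Pi.single i (1 : ℤ))) 1
  let φ : P →ₐ[K] TA K n := MvPolynomial.aeval x
  have hmon : ∀ (m : Fin n →₀ ℕ) (c : K),
      φ (MvPolynomial.monomial m c) = MonoidAlgebra.single (Multiplicative.ofAdd fun i => (m i : ℤ)) c := by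
    intro m c
    have : (fun i => (m i : ℤ)) = ∑ i, m i • Pi.single i (1 : ℤ) := by
      ext j
      simp [Finset.sum_apply, Pi.single_apply]
    rw [MvPolynomial.aeval_monomial, Finsupp.prod_fintype _ _ fun i => pow_zero _]
    have hp : ∀ s : Finset (Fin n), ∏ i ∈ s, x i ^ m i =
        MonoidAlgebra.single (Multiplicative.ofAdd (∑ i ∈ s, m i • Pi.single i (1 : ℤ))) (1 : K) := by
      intro s
      induction s using Finset.induction_on with
      | empty => simp [MonoidAlgebra.one_def]
      | @insert a s ha ih =>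
        rw [Finset.prod_insert ha, Finset.sum_insert ha, ih, MonoidAlgebra.single_pow, MonoidAlgebra.single_mul_single,
          one_pow, _root_.mul_one]
        rfl
    rw [hp, ← this]
    simp [MonoidAlgebra.coe_algebraMap, MonoidAlgebra.single_mul_single]
  have hinj : Function.Injective φ := by
    rw [injective_iff_map_eq_zero]
    intro p hp
    have e : ∀ m, MvPolynomial.coeff m p = 0 := fun m => by
      have h : φ p = ∑ a ∈ p.support, MonoidAlgebra.single (Multiplicative.ofAdd fun i => (a i : ℤ)) (p.coeff a) := by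
        conv_lhs => rw [p.as_sum, map_sum]
        exact Finset.sum_congr rfl fun a _ => hmon a _
      rw [hp] at h
      have h' := congrArg (fun y : TA K n => y.coeff (Multiplicative.ofAdd fun i => (m i : ℤ))) h.symm
      simp only [MonoidAlgebra.coeff_sum, Finsupp.finset_sum_apply, MonoidAlgebra.coeff_single, Finsupp.single_apply,
        MonoidAlgebra.coeff_zero, Finsupp.coe_zero, Pi.zero_apply] at h'
      rw [Finset.sum_eq_single m (fun b _ hb => if_neg fun hh => hb (Finsupp.ext fun i => by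
        exact_mod_cast congrFun (Multiplicative.ofAdd.injective hh) i)) (fun hm => by
          rw [if_pos rfl]; exact MvPolynomial.notMem_support_iff.1 hm), if_pos rfl] at h'
      exact h'
    exact MvPolynomial.ext _ _ fun m => (e m).trans (MvPolynomial.coeff_zero m).symm
  have hfrac : ∀ d : TA K n, ∃ a b : P, b ≠ 0 ∧ d * φ b = φ a := fun d => by
    induction d using MonoidAlgebra.induction_on with
    | of g =>
      obtain ⟨v, rfl⟩ := Multiplicative.ofAdd.surjective g
      refine ⟨MvPolynomial.monomial (Finsupp.equivFunOnFinite.symm fun i => (v i).toNat) 1,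
        MvPolynomial.monomial (Finsupp.equivFunOnFinite.symm fun i => (-v i).toNat) 1, ?_, ?_⟩
      · exact fun h => one_ne_zero (MvPolynomial.monomial_eq_zero.1 h)
      · rw [hmon, hmon, MonoidAlgebra.of_apply, MonoidAlgebra.single_mul_single, _root_.mul_one, ← ofAdd_add]
        congr 2
        ext i
        show v i + ((-v i).toNat : ℤ) = ((v i).toNat : ℤ)
        omega
    | add f g hf hg =>
      obtain ⟨a, b, hb, e⟩ := hf
      obtain ⟨a', b', hb', e'⟩ := hg
      refine ⟨a * b' + a' * b, b * b', mul_ne_zero hb hb', ?_⟩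
      rw [map_add, map_mul, map_mul, map_mul, ← e, ← e']
      ring
    | smul r f hf =>
      obtain ⟨a, b, hb, e⟩ := hf
      exact ⟨r • a, b, hb, by rw [map_smul, ← e, smul_mul_assoc]⟩
  letI : Algebra P F := ((algebraMap (TA K n) F).comp φ.toRingHom).toAlgebra
  haveI : IsScalarTower K P F := IsScalarTower.of_algebraMap_eq fun c => by
    show _ = algebraMap (TA K n) F (φ (algebraMap K P c))
    rw [AlgHom.commutes, ← IsScalarTower.algebraMap_apply]
  haveI : FaithfulSMul P F :=
    (faithfulSMul_iff_algebraMap_injective _ _).2 ((IsFractionRing.injective (TA K n) F).comp hinj)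
  haveI : IsFractionRing P F := IsFractionRing.of_field (R := P) (K := F) fun z => by
    obtain ⟨p, q, hq, rfl⟩ := IsFractionRing.div_surjective (TA K n) z
    obtain ⟨a, b, hb, e⟩ := hfrac p
    obtain ⟨c, d, hd, e'⟩ := hfrac q
    refine ⟨a * d, b * c, ?_⟩
    have hi := IsFractionRing.injective (TA K n) F
    have h0 : ∀ y : P, y ≠ 0 → algebraMap (TA K n) F (φ y) ≠ 0 := fun y hy h =>
      hy (hinj (by rw [map_zero]; exact hi (h.trans (map_zero _).symm)))
    have hq0 : algebraMap (TA K n) F q ≠ 0 := IsFractionRing.to_map_ne_zero_of_mem_nonZeroDivisors hq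
    show _ = algebraMap (TA K n) F (φ (a * d)) / algebraMap (TA K n) F (φ (b * c))
    rw [map_mul φ, map_mul φ, ← e, ← e']
    simp only [map_mul]
    rw [div_eq_div_iff hq0 (mul_ne_zero (h0 b hb) (mul_ne_zero hq0 (h0 d hd)))]
    ring
  haveI : Algebra.FiniteType K (TA K n) := inferInstance
  obtain ⟨s, h1, h2⟩ := WeilLib.dim_eq_trdeg K (TA K n) F
  obtain ⟨t, h3, h4⟩ := WeilLib.dim_eq_trdeg K P F
  rw [h1]
  have hst : s = t := Nat.cast_injective (h2.symm.trans h4)
  rw [hst, ← h3, MvPolynomial.ringKrullDim_of_isNoetherianRing, ringKrullDim_eq_zero_of_field]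
  simp

theorem topologicalKrullDim_sp_TA (n : ℕ) : topologicalKrullDim ↥(sp K (TA K n)).left = n :=
  (PrimeSpectrum.topologicalKrullDim_eq_ringKrullDim (TA K n)).trans (ringKrullDim_TA n)

theorem isTorus_DS (S : Scheme.{u}) (r : ℕ) : Red.IsTorus (Red.DS S (Fin r → ℤ)) := by
  refine ⟨S, 𝟙 S, inferInstance, inferInstance, fun V hV => ⟨V, hV.isCompact, Set.image_id _⟩,
    fun s => ⟨⊤, trivial, r, ?_⟩⟩
  obtain ⟨e, he⟩ := RedCharZeroLib.exists_DS_bc ((⊤ : S.Opens).ι ≫ 𝟙 S) (Fin r → ℤ)
  haveI := he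
  haveI : IsMonHom e.symm.hom := inferInstanceAs (IsMonHom e.inv)
  exact ⟨Grp.mkIso e.symm (IsMonHom.one_hom e.symm.hom) (IsMonHom.mul_hom e.symm.hom)⟩

theorem isTorus_of_iso {S : Scheme.{u}} {T T' : Over S} [GrpObj T] [GrpObj T'] (e : T ≅ T') [IsMonHom e.hom]
    (hT' : Red.IsTorus T') : Red.IsTorus T := by
  obtain ⟨S', f, h1, h2, h3, hloc⟩ := hT'
  refine ⟨S', f, h1, h2, h3, fun z => ?_⟩
  obtain ⟨U, hU, r, ⟨E⟩⟩ := hloc z
  haveI : IsMonHom (M := Red.bc (U.ι ≫ f) T) (N := Red.bc (U.ι ≫ f) T') ((Over.pullback (U.ι ≫ f)).map e.hom) :=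
    DiagRep.isMonHom_bc_map _ e.hom
  let E₀ : Red.bc (U.ι ≫ f) T ≅ Red.bc (U.ι ≫ f) T' := (Over.pullback (U.ι ≫ f)).mapIso e
  haveI : IsMonHom E₀.hom := ‹IsMonHom (M := Red.bc (U.ι ≫ f) T) (N := Red.bc (U.ι ≫ f) T') _›
  exact ⟨U, hU, r, ⟨Grp.mkIso E₀ (IsMonHom.one_hom E₀.hom) (IsMonHom.mul_hom E₀.hom) ≪≫ E⟩⟩

theorem isClosedImmersion_of_mono_sp {G : Over (Spec (CommRingCat.of K))} [GrpObj G] [IsAffineHom G.hom]
    [LocallyOfFiniteType G.hom] {n : ℕ} (i : sp K (TA K n) ⟶ G) [IsMonHom i] [Mono i] :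
    IsClosedImmersion i.left := by
  obtain ⟨w, hw, -⟩ := TorusField.exists_DS_iso K (Fin n → ℤ)
  haveI := hw
  obtain ⟨S', f, h1, h2, h3, hloc⟩ := isTorus_of_iso w (isTorus_DS (Spec (CommRingCat.of K)) n)
  exact Transporter.isClosedImmersion_of_mono ⟨S', f, h1, h2, h3, fun z => by
    obtain ⟨U, hU, r, h⟩ := hloc z
    exact ⟨U, hU, Fin r → ℤ, inferInstance, h⟩⟩ inferInstance i

/-- The rank of a subtorus is bounded. -/
theorem exists_rank_bound (G : Over (Spec (CommRingCat.of K))) [GrpObj G] [IsAffineHom G.hom]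
    [LocallyOfFiniteType G.hom] :
    ∃ m : ℕ, ∀ (n : ℕ) (i : sp K (TA K n) ⟶ G), IsMonHom i → Mono i → n ≤ m := by
  haveI : IsAffine G.left := isAffine_of_isAffineHom G.hom
  obtain ⟨A, _, _, v, hv, hv'⟩ := HomCorr.exists_hopf G
  haveI : IsIso v.hom.left := inferInstanceAs (IsIso ((Over.forget _).map v.hom))
  haveI : Algebra.FiniteType K A := by
    have h : LocallyOfFiniteType (sp K A).hom := by
      rw [← Over.w v.hom]
      infer_instance
    change LocallyOfFiniteType (Spec.map (CommRingCat.ofHom (algebraMap K A))) at h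
    rwa [HasRingHomProperty.Spec_iff (P := @LocallyOfFiniteType), CommRingCat.hom_ofHom,
      RingHom.finiteType_algebraMap] at h
  obtain ⟨m, f, hf⟩ := Algebra.FiniteType.iff_quotient_mvPolynomial''.1 ‹Algebra.FiniteType K A›
  refine ⟨m, fun n i hi hm => ?_⟩
  haveI := isClosedImmersion_of_mono_sp i
  obtain ⟨ψ, hψ⟩ := DiagRep.exists_pt (i ≫ v.inv)
  have hci : IsClosedImmersion (pt ψ).left := by
    rw [← hψ]
    haveI : IsIso v.inv.left := inferInstanceAs (IsIso ((Over.forget _).map v.inv))
    exact inferInstanceAs (IsClosedImmersion (i.left ≫ v.inv.left))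
  have h := (ringKrullDim_le_of_surjective ψ.toRingHom (DiagRep.surjective_of_isClosedImmersion ψ hci)).trans
    (ringKrullDim_le_of_surjective f.toRingHom hf)
  rw [ringKrullDim_TA, MvPolynomial.ringKrullDim_of_isNoetherianRing, ringKrullDim_eq_zero_of_field] at h
  simpa using h

/-- A monomorphism of split tori raises the rank, and is an isomorphism when the ranks agree. -/
theorem le_and_isIso_of_mono {m n : ℕ} (f : sp K (TA K n) ⟶ sp K (TA K m)) [IsMonHom f] [Mono f] :
    n ≤ m ∧ (n = m → IsIso f) := by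
  haveI : IsAffineHom (sp K (TA K m)).hom :=
    inferInstanceAs (IsAffineHom (Spec.map (CommRingCat.ofHom (algebraMap K (TA K m)))))
  haveI : LocallyOfFiniteType (sp K (TA K m)).hom := by
    show LocallyOfFiniteType (Spec.map (CommRingCat.ofHom (algebraMap K (TA K m))))
    rw [HasRingHomProperty.Spec_iff (P := @LocallyOfFiniteType)]
    exact RingHom.finiteType_algebraMap.2 inferInstance
  haveI hci := isClosedImmersion_of_mono_sp f
  obtain ⟨φ, rfl⟩ := exists_tMap f
  have hs := DiagRep.surjective_of_isClosedImmersion (tMap (k := K) φ) hci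
  refine ⟨?_, fun e => ?_⟩
  · have h := ringKrullDim_le_of_surjective (tMap (k := K) φ).toRingHom hs
    rw [ringKrullDim_TA, ringKrullDim_TA] at h
    exact_mod_cast h
  · subst e
    have hφ : Function.Surjective φ := fun w => by
      classical
      obtain ⟨d, hd⟩ := hs (MonoidAlgebra.single (Multiplicative.ofAdd w) 1)
      have h0 : Finsupp.mapDomain φ.toMultiplicative d.coeff = Finsupp.single (Multiplicative.ofAdd w) 1 :=
        congrArg MonoidAlgebra.coeff hd
      have hmem : Multiplicative.ofAdd w ∈ (Finsupp.mapDomain φ.toMultiplicative d.coeff).support := by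
        rw [h0]
        simp
      obtain ⟨x, -, hx⟩ := Finset.mem_image.1 (Finsupp.mapDomain_support hmem)
      exact ⟨x.toAdd, Multiplicative.ofAdd.injective hx⟩
    have hb : Function.Bijective φ.toIntLinearMap :=
      ⟨OrzechProperty.injective_of_surjective_endomorphism φ.toIntLinearMap hφ, hφ⟩
    let e := (LinearEquiv.ofBijective φ.toIntLinearMap hb).toAddEquiv
    refine ⟨pt (tMap (k := K) e.symm.toAddMonoidHom), ?_, ?_⟩
    · rw [← pt_comp, tMap_comp]
      rw [show φ.comp e.symm.toAddMonoidHom = AddMonoidHom.id _ from AddMonoidHom.ext e.apply_symm_apply,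
        tMap_id, pt_id]
    · rw [← pt_comp, tMap_comp]
      rw [show (e.symm.toAddMonoidHom).comp φ = AddMonoidHom.id _ from AddMonoidHom.ext e.symm_apply_apply,
        tMap_id, pt_id]

/-- A surjection of lattices gives a subtorus. -/
theorem exists_subtorus {n m : ℕ} (h : n ≤ m) :
    ∃ i : sp K (TA K n) ⟶ sp K (TA K m), IsMonHom i ∧ Mono i := by
  let φ : (Fin m → ℤ) →+ (Fin n → ℤ) :=
    { toFun := fun v i => v (Fin.castLE h i)
      map_zero' := rfl
      map_add' := fun _ _ => rfl }
  have hφ : Function.Surjective φ := fun w =>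
    ⟨fun j => if hj : (j : ℕ) < n then w ⟨j, hj⟩ else 0, funext fun i => by simp [φ]⟩
  refine ⟨pt (tMap (k := K) φ), isMonHom_tMap φ, DiagRep.mono_of_isClosedImmersion _ ?_⟩
  rw [pt_left]
  refine IsClosedImmersion.spec_of_surjective _ ?_
  intro y
  obtain ⟨x, hx⟩ := Finsupp.mapDomain_surjective (M := K) (f := φ.toMultiplicative) hφ y.coeff
  exact ⟨MonoidAlgebra.ofCoeff x, congrArg MonoidAlgebra.ofCoeff hx⟩

end Groth.Agent.RedRank
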