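import Groth.Agent.HomRepLib.Transfer
import Groth.Agent.MonoLocusLib.Global

/-!
Families of homomorphisms as homomorphisms over the parameter scheme.
-/

set_option autoImplicit false

noncomputable section

universe u

open CategoryTheory CategoryTheory.Limits MonoidalCategory CartesianMonoidalCategory AlgebraicGeometry
open scoped MonObj

namespace Groth.Agent.RedRank

open HomRep (bcEquiv bcEquiv_mul bcEquiv_symm_mul)
open MonoLocus (KTriv ktriv_iff)

attribute [local instance] CoactBr.braidedAlgSpecOf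

variable {S : Scheme.{u}} {H G : Over S} [GrpObj H] [GrpObj G] {T : Over S}

theorem isMonHom_of_mul {X Y : Over S} [GrpObj X] [GrpObj Y] (f : X ⟶ Y)
    (h : ∀ (Z : Over S) (a b : Z ⟶ X), (a * b) ≫ f = (a ≫ f) * (b ≫ f)) : IsMonHom f := by
  refine { one_hom := ?_, mul_hom := ?_ }
  · rw [MonObj.one_eq_one, MonObj.one_eq_one]
    have e := h (𝟙_ (Over S)) 1 1
    rw [_root_.one_mul] at e
    exact left_eq_mul.1 e
  · rw [MonObj.mul_eq_mul X, h, MonObj.mul_eq_mul Y, MonObj.comp_mul, tensorHom_fst, tensorHom_snd]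

theorem bcEquiv_one {P : Scheme.{u}} (p : P ⟶ S) (Z : Over P) :
    bcEquiv p G Z (1 : (Over.map p).obj Z ⟶ G) = 1 := by
  have h := bcEquiv_mul p G Z (1 : (Over.map p).obj Z ⟶ G) 1
  rw [_root_.mul_one] at h
  exact left_eq_mul.1 h

/-- A scheme over the parameters, projected to the parameters. -/
def proj (T : Over S) (Z : Over T.left) : (Over.map T.hom).obj Z ⟶ T := Over.homMk Z.hom rfl

/-- The homomorphism over the parameters of a family. -/
def homOf (φ : H ⊗ T ⟶ G) : Red.bc T.hom H ⟶ Red.bc T.hom G :=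
  bcEquiv T.hom G _ (lift ((bcEquiv T.hom H _).symm (𝟙 (Red.bc T.hom H))) (proj T _) ≫ φ)

theorem comp_homOf (φ : H ⊗ T ⟶ G) {Z : Over T.left} (g : Z ⟶ Red.bc T.hom H) :
    g ≫ homOf φ = bcEquiv T.hom G Z (lift ((bcEquiv T.hom H Z).symm g) (proj T Z) ≫ φ) := by
  rw [homOf, ← Adjunction.homEquiv_naturality_left, ← Category.assoc, comp_lift]
  congr 2
  have h2 : (Over.map T.hom).map g ≫ proj T (Red.bc T.hom H) = proj T Z := Over.OverMorphism.ext (Over.w g)
  rw [h2, ← Adjunction.homEquiv_naturality_left_symm, Category.comp_id]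

theorem isMonHom_homOf {φ : H ⊗ T ⟶ G} (hφ : AutFam.IsHomFamily H G φ) : IsMonHom (homOf φ) := by
  refine isMonHom_of_mul _ fun Z a b => ?_
  rw [comp_homOf, comp_homOf, comp_homOf, ← bcEquiv_mul, bcEquiv_symm_mul]
  congr 1
  exact hφ _ _ _ _

/-- The scheme over the parameters of a point. -/
abbrev pobj {Y : Over S} (a : Y ⟶ T) : Over T.left := Over.mk a.left

/-- The scheme over the parameters of a point, seen over the base. -/
def piso {Y : Over S} (a : Y ⟶ T) : (Over.map T.hom).obj (pobj a) ≅ Y :=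
  Over.isoMk (Iso.refl _) (by
    show 𝟙 _ ≫ Y.hom = a.left ≫ T.hom
    rw [Category.id_comp, Over.w a])

theorem piso_hom_comp {Y : Over S} (a : Y ⟶ T) : (piso a).hom ≫ a = proj T (pobj a) :=
  Over.OverMorphism.ext (Category.id_comp _)

theorem bcEquiv_lift (φ : H ⊗ T ⟶ G) {Y : Over S} (h : Y ⟶ H) (a : Y ⟶ T) :
    bcEquiv T.hom G (pobj a) ((piso a).hom ≫ lift h a ≫ φ) =
      bcEquiv T.hom H (pobj a) ((piso a).hom ≫ h) ≫ homOf φ := by
  rw [comp_homOf, Equiv.symm_apply_apply, ← piso_hom_comp, ← comp_lift_assoc]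

theorem isHomFamily_of_isMonHom (φ : H ⊗ T ⟶ G) [IsMonHom (homOf φ)] : AutFam.IsHomFamily H G φ := by
  intro X g₁ g₂ t
  rw [← cancel_epi (piso t).hom]
  refine (bcEquiv T.hom G (pobj t)).injective ?_
  rw [MonObj.comp_mul, bcEquiv_mul, bcEquiv_lift, bcEquiv_lift, bcEquiv_lift, MonObj.comp_mul, bcEquiv_mul,
    MultLift.hom_mul (homOf φ)]

theorem exists_homOf_eq (ψ : Red.bc T.hom H ⟶ Red.bc T.hom G) : ∃ φ : H ⊗ T ⟶ G, homOf φ = ψ := by
  let a := snd H T
  refine ⟨(piso a).inv ≫ (bcEquiv T.hom G (pobj a)).symm (bcEquiv T.hom H (pobj a) ((piso a).hom ≫ fst H T) ≫ ψ), ?_⟩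
  let c := (bcEquiv T.hom H (Red.bc T.hom H)).symm (𝟙 (Red.bc T.hom H))
  let m := lift c (proj T (Red.bc T.hom H))
  let k : Red.bc T.hom H ⟶ pobj a := Over.homMk m.left (by
    show m.left ≫ a.left = _
    rw [← Over.comp_left, lift_snd]
    rfl)
  have hk : m ≫ (piso a).inv = (Over.map T.hom).map k := Over.OverMorphism.ext (Category.comp_id _)
  show bcEquiv T.hom G _ (m ≫ (piso a).inv ≫ _) = ψ
  rw [← Category.assoc, hk, Adjunction.homEquiv_naturality_left, Equiv.apply_symm_apply, ← Category.assoc,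
    ← Adjunction.homEquiv_naturality_left, ← hk, Category.assoc, Iso.inv_hom_id_assoc, lift_fst,
    Equiv.apply_symm_apply, Category.id_comp]

/-- The family is injective on the points over `g`. -/
def Inj (φ : H ⊗ T ⟶ G) {Z : Scheme.{u}} (g : Z ⟶ T.left) : Prop :=
  ∀ (Y : Over S) (q : Y.left ⟶ Z) (w : (q ≫ g) ≫ T.hom = Y.hom) (h : Y ⟶ H),
    lift h (Over.homMk (q ≫ g) w) ≫ φ = 1 → h = 1

theorem ktriv_homOf_iff (φ : H ⊗ T ⟶ G) [IsMonHom (homOf φ)] {Z : Scheme.{u}} (g : Z ⟶ T.left) :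
    KTriv (homOf φ) g ↔ Inj φ g := by
  rw [ktriv_iff]
  constructor
  · intro hk Y q w h e
    let a : Y ⟶ T := Over.homMk (q ≫ g) w
    have h1 := hk (pobj a) q rfl (bcEquiv T.hom H (pobj a) ((piso a).hom ≫ h)) (by
      rw [← bcEquiv_lift, e, MonObj.comp_one, bcEquiv_one])
    rw [← bcEquiv_one T.hom (pobj a) (G := H)] at h1
    have h2 := (bcEquiv T.hom H (pobj a)).injective h1
    rwa [← MonObj.comp_one (piso a).hom, cancel_epi] at h2
  · intro hi Y q hq g' e
    rw [comp_homOf, ← bcEquiv_one T.hom Y] at e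
    have e' := (bcEquiv T.hom G Y).injective e
    have w : (q ≫ g) ≫ T.hom = ((Over.map T.hom).obj Y).hom := by
      rw [hq]
      rfl
    have ha : (Over.homMk (q ≫ g) w : (Over.map T.hom).obj Y ⟶ T) = proj T Y := Over.OverMorphism.ext hq
    have h2 := hi ((Over.map T.hom).obj Y) q w ((bcEquiv T.hom H Y).symm g') (by rw [ha]; exact e')
    rw [Equiv.symm_apply_eq, bcEquiv_one] at h2
    exact h2

theorem inj_whisker_iff {T' : Over S} (φ : H ⊗ T ⟶ G) (a : T' ⟶ T) {Z : Scheme.{u}} (g : Z ⟶ T'.left) :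
    Inj ((H ◁ a) ≫ φ) g ↔ Inj φ (g ≫ a.left) := by
  have key : ∀ (Y : Over S) (q : Y.left ⟶ Z) (w : (q ≫ g) ≫ T'.hom = Y.hom)
      (w' : (q ≫ g ≫ a.left) ≫ T.hom = Y.hom) (h : Y ⟶ H),
      lift h (Over.homMk (q ≫ g) w) ≫ (H ◁ a) ≫ φ = lift h (Over.homMk (q ≫ g ≫ a.left) w') ≫ φ := by
    intro Y q w w' h
    rw [← Category.assoc, lift_whiskerLeft]
    congr 2
  constructor
  · intro hi Y q w h e
    have w' : (q ≫ g) ≫ T'.hom = Y.hom := by rw [← w, Category.assoc, Category.assoc, Category.assoc, Over.w a]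
    exact hi Y q w' h ((key Y q w' w h).trans e)
  · intro hi Y q w h e
    have w' : (q ≫ g ≫ a.left) ≫ T.hom = Y.hom := by
      rw [← w, Category.assoc, Category.assoc, Category.assoc, Over.w a]
    exact hi Y q w' h ((key Y q w w' h).symm.trans e)

theorem mono_iff_ktriv_id {S' : Scheme.{u}} {X Y : Over S'} [GrpObj X] [GrpObj Y] (v : X ⟶ Y) [IsMonHom v] :
    Mono v ↔ KTriv v (𝟙 S') := by
  rw [ktriv_iff]
  constructor
  · intro hm Z q hq h e
    exact (cancel_mono v).1 (e.trans (MonObj.one_comp v).symm)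
  · intro hk
    refine ⟨fun {Z} a b hab => ?_⟩
    have h1 : (a * b⁻¹) ≫ v = 1 := by rw [MultLift.hom_mul v, GrpObj.inv_comp, hab, mul_inv_cancel]
    exact mul_inv_eq_one.1 (hk Z Z.hom (Category.comp_id _) _ h1)

end Groth.Agent.RedRank
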