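import Groth.Agent.RedRankLib.Fam
import Groth.Agent.HomRepLib.Descent
import Groth.Agent.RepDescLib.Hom
import Groth.Agent.RichLib.IndQuasiAffine
import Groth.Agent.SubDescLib.Main

/-!
Descent of affine subgroups along coverings.
-/

set_option autoImplicit false
set_option backward.isDefEq.respectTransparency false

noncomputable section

universe u

open CategoryTheory CategoryTheory.Limits MonoidalCategory CartesianMonoidalCategory AlgebraicGeometry
open scoped MonObj

namespace Groth.Agent.RedRank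

open HomRep (bcEquiv bcEquiv_mul)

variable {S P : Scheme.{u}} (π : P ⟶ S) (G : Over S) [GrpObj G] {T' : Over P} [GrpObj T']
  (i' : T' ⟶ Red.bc π G)

/-- The section lies in the subgroup over the covering. -/
def LocIn {Y : Over S} (g : Y ⟶ G) : Prop :=
  ∀ (Z : Over P) (z : (Over.map π).obj Z ⟶ Y), ∃ a : Z ⟶ T', a ≫ i' = bcEquiv π G Z (z ≫ g)

variable {π G i'}

theorem LocIn.comp {Y Y' : Over S} {g : Y ⟶ G} (h : LocIn π G i' g) (f : Y' ⟶ Y) : LocIn π G i' (f ≫ g) :=
  fun Z z => by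
    obtain ⟨a, ha⟩ := h Z (z ≫ f)
    exact ⟨a, by rw [ha, Category.assoc]⟩

theorem LocIn.mul [IsMonHom i'] {Y : Over S} {g g' : Y ⟶ G} (h : LocIn π G i' g) (h' : LocIn π G i' g') :
    LocIn π G i' (g * g') := fun Z z => by
  obtain ⟨a, ha⟩ := h Z z
  obtain ⟨a', ha'⟩ := h' Z z
  exact ⟨a * a', by rw [MultLift.hom_mul i', ha, ha', MonObj.comp_mul, bcEquiv_mul]⟩

theorem LocIn.one [IsMonHom i'] (Y : Over S) : LocIn π G i' (1 : Y ⟶ G) := fun Z z =>
  ⟨1, by rw [MonObj.one_comp, MonObj.comp_one, bcEquiv_one]⟩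

theorem LocIn.inv [IsMonHom i'] {Y : Over S} {g : Y ⟶ G} (h : LocIn π G i' g) : LocIn π G i' g⁻¹ := fun Z z => by
  obtain ⟨a, ha⟩ := h Z z
  refine ⟨a⁻¹, ?_⟩
  rw [GrpObj.inv_comp, GrpObj.comp_inv, ha, eq_comm, eq_inv_iff_mul_eq_one, ← bcEquiv_mul, inv_mul_cancel, bcEquiv_one]

section Family

variable {ν : Type u} {Q : ν → Scheme.{u}} (ϖ : ∀ k, Q k ⟶ S) (G) {T'' : ∀ k, Over (Q k)}
  [∀ k, GrpObj (T'' k)] (ii : ∀ k, T'' k ⟶ Red.bc (ϖ k) G)

/-- The sheaf of sections lying in the subgroups. -/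
def locSec : RepDescLib.Sec S where
  obj Y := {g : Y ⟶ G // ∀ k, LocIn (ϖ k) G (ii k) g}
  res f g := ⟨f ≫ g.1, fun k => (g.2 k).comp f⟩
  res_id g := Subtype.ext (Category.id_comp _)
  res_comp f h g := Subtype.ext (Category.assoc _ _ _)

theorem isSheaf_locSec [∀ k, Mono (ii k)] : RepDescLib.IsSheaf (locSec G ϖ ii) where
  descend {Y' Y} q _ x hx := by
    obtain ⟨g, hg, hu⟩ := RepDescLib.hom_descend q x.1 fun T a b e => congrArg Subtype.val (hx T a b e)
    have hloc : ∀ m, LocIn (ϖ m) G (ii m) g := fun m Z z => by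
      let Z₁ : Over (Q m) := Over.mk (pullback.snd q.left z.left ≫ Z.hom)
      let k : Z₁ ⟶ Z := Over.homMk (pullback.snd q.left z.left) rfl
      let z₁ : (Over.map (ϖ m)).obj Z₁ ⟶ Y' := Over.homMk (pullback.fst q.left z.left) (by
        show pullback.fst q.left z.left ≫ Y'.hom = (pullback.snd q.left z.left ≫ Z.hom) ≫ ϖ m
        rw [← Over.w q, ← Category.assoc, pullback.condition, Category.assoc, Over.w z, Category.assoc]
        rfl)
      have hz : z₁ ≫ q = (Over.map (ϖ m)).map k ≫ z := Over.OverMorphism.ext pullback.condition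
      haveI : DescLib.Fpqc k.left := inferInstanceAs (DescLib.Fpqc (pullback.snd q.left z.left))
      obtain ⟨a₁, ha₁⟩ := x.2 m Z₁ z₁
      have e₁ : a₁ ≫ ii m = k ≫ bcEquiv (ϖ m) G Z (z ≫ g) := by
        rw [ha₁, ← hg, ← Category.assoc, hz, Category.assoc, Adjunction.homEquiv_naturality_left]
      obtain ⟨a, ha, -⟩ := RepDescLib.hom_descend k a₁ fun T b c e =>
        (cancel_mono (ii m)).1 (by rw [Category.assoc, Category.assoc, e₁, ← Category.assoc, e, Category.assoc])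
      refine ⟨a, Over.OverMorphism.ext ((cancel_epi k.left).1 ?_)⟩
      rw [← Over.comp_left, ← Over.comp_left, ← Category.assoc, ha, e₁]
    exact ⟨⟨g, hloc⟩, Subtype.ext hg, fun y hy => Subtype.ext (hu y.1 (congrArg Subtype.val hy))⟩
  glue {κ Y} U j hj hcov x hx := by
    obtain ⟨g, hg, hu⟩ := RepDescLib.hom_glue U j hj hcov (fun i => (x i).1)
      fun i i' T a b e => congrArg Subtype.val (hx i i' T a b e)
    have hloc : ∀ m, LocIn (ϖ m) G (ii m) g := fun m Z z => by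
      let Z₁ : κ → Over (Q m) := fun i => Over.mk (pullback.snd (j i).left z.left ≫ Z.hom)
      let k : ∀ i, Z₁ i ⟶ Z := fun i => Over.homMk (pullback.snd (j i).left z.left) rfl
      have hk : ∀ i, IsOpenImmersion (k i).left := fun i => by
        haveI := hj i
        exact inferInstanceAs (IsOpenImmersion (pullback.snd (j i).left z.left))
      have hkcov : ∀ t, ∃ i, t ∈ Set.range (k i).left := fun t => by
        obtain ⟨i, w, hw⟩ := hcov (z.left t)
        obtain ⟨v, -, hv⟩ := Scheme.Pullback.exists_preimage_pullback (f := (j i).left) (g := z.left) w t hw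
        exact ⟨i, v, hv⟩
      let z₁ : ∀ i, (Over.map (ϖ m)).obj (Z₁ i) ⟶ U i := fun i => Over.homMk (pullback.fst (j i).left z.left) (by
        show pullback.fst (j i).left z.left ≫ (U i).hom = (pullback.snd (j i).left z.left ≫ Z.hom) ≫ ϖ m
        rw [← Over.w (j i), ← Category.assoc, pullback.condition, Category.assoc, Over.w z, Category.assoc]
        rfl)
      have hz : ∀ i, z₁ i ≫ j i = (Over.map (ϖ m)).map (k i) ≫ z := fun i => Over.OverMorphism.ext pullback.condition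
      choose a₁ ha₁ using fun i => (x i).2 m (Z₁ i) (z₁ i)
      have e₁ : ∀ i, a₁ i ≫ ii m = k i ≫ bcEquiv (ϖ m) G Z (z ≫ g) := fun i => by
        rw [ha₁, ← hg i, ← Category.assoc, hz, Category.assoc, Adjunction.homEquiv_naturality_left]
      obtain ⟨a, ha, -⟩ := RepDescLib.hom_glue Z₁ k hk hkcov a₁ fun i i₂ T b c e =>
        (cancel_mono (ii m)).1 (by rw [Category.assoc, Category.assoc, e₁, e₁, ← Category.assoc, e, Category.assoc])
      refine ⟨a, (RepDescLib.hom_glue Z₁ k hk hkcov (fun i => k i ≫ bcEquiv (ϖ m) G Z (z ≫ g))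
        fun i i₂ T b c e => by rw [← Category.assoc, e, Category.assoc]).unique ?_ fun i => rfl⟩
      intro i
      rw [← Category.assoc, ha, e₁]
    exact ⟨⟨g, hloc⟩, fun i => Subtype.ext (hg i), fun y hy => Subtype.ext (hu y.1 fun i => congrArg Subtype.val (hy i))⟩

/-- Affine subgroups over the pieces of a covering satisfying the cocycle condition descend. -/
theorem exists_descended [DescLib.Fpqc (Limits.Sigma.desc ϖ)] [∀ k, IsMonHom (ii k)] [∀ k, Mono (ii k)]
    [∀ k, IsAffineHom (T'' k).hom]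
    (hloc : ∀ k l, LocIn (ϖ l) G (ii l) ((bcEquiv (ϖ k) G (T'' k)).symm (ii k))) :
    ∃ (T : Over S) (_ : GrpObj T) (i : T ⟶ G), IsMonHom i ∧ Mono i ∧ IsAffineHom T.hom ∧
      (∀ (Y : Over S) (g : Y ⟶ G), (∀ k, LocIn (ϖ k) G (ii k) g) → ∃ a : Y ⟶ T, a ≫ i = g) ∧
      ∀ k, ∃ e : T'' k ≅ Red.bc (ϖ k) T, IsMonHom e.hom ∧ e.hom ≫ (Over.pullback (ϖ k)).map i = ii k := by
  have hF := isSheaf_locSec G ϖ ii
  let P₁ : ν → Over S := fun k => Over.mk (ϖ k)
  let A : ν → Over S := fun k => (Over.map (ϖ k)).obj (T'' k)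
  let π' : ∀ k, A k ⟶ P₁ k := fun k => Over.homMk (T'' k).hom rfl
  let us : ∀ k, (locSec G ϖ ii).obj (A k) := fun k => ⟨(bcEquiv (ϖ k) G (T'' k)).symm (ii k), hloc k⟩
  have hrep : ∀ k, RepDescLib.IsRepOver (locSec G ϖ ii) (π' k) (us k) := by
    intro k Y x s
    let ε := piso (T := P₁ k) x
    obtain ⟨a', ha'⟩ := s.2 k (pobj (T := P₁ k) x) ε.hom
    refine ⟨ε.inv ≫ (Over.map (ϖ k)).map a', ⟨?_, ?_⟩, ?_⟩
    · refine Over.OverMorphism.ext ?_
      show (𝟙 _ ≫ a'.left) ≫ (T'' k).hom = x.left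
      rw [Category.id_comp, Over.w a']
      rfl
    · refine Subtype.ext ?_
      show (ε.inv ≫ (Over.map (ϖ k)).map a') ≫ (bcEquiv (ϖ k) G (T'' k)).symm (ii k) = s.1
      rw [Category.assoc, ← Adjunction.homEquiv_naturality_left_symm, ha']
      erw [Equiv.symm_apply_apply]
      rw [Iso.inv_hom_id_assoc]
    · rintro b ⟨hb₁, hb₂⟩
      have hb : b.left ≫ (T'' k).hom = x.left := congrArg Over.Hom.left hb₁
      let b' : pobj (T := P₁ k) x ⟶ T'' k := Over.homMk b.left hb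
      have hbb : ε.inv ≫ (Over.map (ϖ k)).map b' = b := Over.OverMorphism.ext (Category.id_comp _)
      suffices b' = a' by rw [← hbb, this]
      rw [← cancel_mono (ii k), ha']
      apply (bcEquiv (ϖ k) G _).symm.injective
      rw [Adjunction.homEquiv_naturality_left_symm]
      erw [Equiv.symm_apply_apply]
      rw [← congrArg Subtype.val hb₂, ← hbb]
      show _ = ε.hom ≫ (ε.inv ≫ (Over.map (ϖ k)).map b') ≫ _
      rw [Category.assoc, Iso.hom_inv_id_assoc]
  obtain ⟨A', pA, u', hrep', e, he⟩ := RepDescLib.isRepOver_sigma hF (P := P₁) (A := A) π' us hrep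
  haveI : DescLib.Fpqc (Over.mk (Limits.Sigma.desc fun k => (P₁ k).hom)).hom := ‹DescLib.Fpqc (Limits.Sigma.desc ϖ)›
  have haff : IsAffineHom pA.left := by
    rw [he]
    refine (MorphismProperty.cancel_left_of_respectsIso @IsAffineHom e.hom _).2 ?_
    refine IsZariskiLocalAtTarget.of_openCover (P := @IsAffineHom) (sigmaOpenCover fun k => Q k) fun k => ?_
    have hsq : IsPullback _ _ _ _ := (DescLib.isPullback_sigmaι_map (fun k => (T'' k).hom) k).flip
    change IsAffineHom (pullback.snd (Limits.Sigma.map fun k => (T'' k).hom) (Sigma.ι Q k))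
    rw [← hsq.isoPullback_inv_snd]
    exact (MorphismProperty.cancel_left_of_respectsIso @IsAffineHom _ _).2 inferInstance
  obtain ⟨T, u₀, q, hT, -, sq⟩ := RepDescLib.exists_rep_of_cover hF hrep' fun D hD =>
    HomRep.effective_indQA D (by
      rw [hD]
      haveI := haff
      refine RichLib.QA.indQA_of_qa _ ⟨inferInstanceAs (QuasiCompact pA.left), fun V hV => ?_⟩
      haveI : IsAffine ((pA.left ⁻¹ᵁ V : A'.left.Opens) : Scheme.{u}) := IsAffineHom.isAffine_preimage V hV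
      exact (inferInstance : Scheme.IsQuasiAffine ((pA.left ⁻¹ᵁ V : A'.left.Opens) : Scheme.{u})))
  let i₀ : T ⟶ G := u₀.1
  haveI : Mono i₀ := ⟨fun {Y} a b e => (hT Y ⟨b ≫ i₀, fun k => (u₀.2 k).comp b⟩).unique (Subtype.ext e) rfl⟩
  have hfac : ∀ (Y : Over S) (g : Y ⟶ G), (∀ k, LocIn (ϖ k) G (ii k) g) → ∃ a : Y ⟶ T, a ≫ i₀ = g := fun Y g hg => by
    obtain ⟨a, ha, -⟩ := hT Y ⟨g, hg⟩
    exact ⟨a, congrArg Subtype.val ha⟩
  obtain ⟨gT, hgT⟩ := SubDesc.exists_grpObj_of_mono i₀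
    (hfac _ _ fun k => ((u₀.2 k).comp (fst T T)).mul ((u₀.2 k).comp (snd T T))) (hfac _ _ fun k => LocIn.one _)
    (hfac _ _ fun k => (u₀.2 k).inv)
  haveI := hgT
  refine ⟨T, gT, i₀, hgT, inferInstance, HomRep.prop_of_isPullback_fpqc @IsAffineHom sq haff, hfac, fun k => ?_⟩
  haveI : IsMonHom (M := Red.bc (ϖ k) T) (N := Red.bc (ϖ k) G) ((Over.pullback (ϖ k)).map i₀) :=
    DiagRep.isMonHom_bc_map (ϖ k) i₀
  haveI : Mono ((Over.pullback (ϖ k)).map i₀) := by
    haveI : (Over.pullback (ϖ k)).IsRightAdjoint := (Over.mapPullbackAdj (ϖ k)).isRightAdjoint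
    infer_instance
  obtain ⟨a, ha⟩ := hfac (A k) _ (hloc k)
  obtain ⟨b, hb⟩ := u₀.2 k (Red.bc (ϖ k) T) ((bcEquiv (ϖ k) T _).symm (𝟙 _))
  rw [← Adjunction.homEquiv_naturality_right_symm, Category.id_comp, Equiv.apply_symm_apply] at hb
  have hc : bcEquiv (ϖ k) T (T'' k) a ≫ (Over.pullback (ϖ k)).map i₀ = ii k := by
    rw [← Adjunction.homEquiv_naturality_right, ha, Equiv.apply_symm_apply]
  let e : T'' k ≅ Red.bc (ϖ k) T :=
    { hom := bcEquiv (ϖ k) T (T'' k) a
      inv := b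
      hom_inv_id := by rw [← cancel_mono (ii k), Category.assoc, hb, hc, Category.id_comp]
      inv_hom_id := by rw [← cancel_mono ((Over.pullback (ϖ k)).map i₀), Category.assoc, hc, hb, Category.id_comp] }
  haveI : IsMonHom (e.hom ≫ (Over.pullback (ϖ k)).map i₀) := hc.symm ▸ inferInstanceAs (IsMonHom (ii k))
  exact ⟨e, DiagRep.isMonHom_of_comp_mono e.hom ((Over.pullback (ϖ k)).map i₀), hc⟩

end Family

end Groth.Agent.RedRank
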