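import Groth.Agent.RedRankLib.Comm
import Groth.Agent.RedRankLib.SubDescent
import Groth.Agent.EqNhdLib.Main
import Groth.Agent.TransporterLib.ClosedImm
import Groth.Agent.S5261
import Groth.Agent.RepDescLib.DualConst

/-!
Maximal tori of commutative smooth affine groups.
-/

set_option autoImplicit false

noncomputable section

universe u

open CategoryTheory CategoryTheory.Limits MonoidalCategory CartesianMonoidalCategory AlgebraicGeometry CoactBr
open scoped MonObj

namespace Groth.Agent.RedRank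

open HomRep (bcEquiv)
open MultEq (LE)

attribute [local instance] CoactBr.braidedAlgSpecOf

variable {S : Scheme.{u}}

theorem isTorus_bc {T : Over S} [GrpObj T] (hT : Red.IsTorus T) {P : Scheme.{u}} (p : P ⟶ S) :
    Red.IsTorus (Red.bc p T) := by
  obtain ⟨S', f, hflat, hsurj, hcov, hloc⟩ := hT
  haveI := hflat
  haveI := hsurj
  refine ⟨pullback p f, pullback.fst p f, inferInstance, inferInstance, DescHom.hcov_pullback_snd f p hcov, fun z => ?_⟩
  obtain ⟨U, hU, r, ⟨e⟩⟩ := hloc (pullback.snd p f z)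
  refine ⟨(pullback.snd p f) ⁻¹ᵁ U, hU, r, DescHom.nonempty_iso_bc e p _ ((pullback.snd p f).resLE U _ le_rfl) ?_⟩
  rw [Scheme.Hom.resLE_comp_ι_assoc, Category.assoc, pullback.condition]

theorem isMultTypeFT_of_isTorus {T : Over S} [GrpObj T] (hT : Red.IsTorus T) : SGA3x.IsMultTypeFT T := by
  obtain ⟨S', f, h1, h2, h3, hloc⟩ := hT
  refine ⟨S', f, h1, h2, h3, fun z => ?_⟩
  obtain ⟨U, hU, r, h⟩ := hloc z
  exact ⟨U, hU, Fin r → ℤ, inferInstance, Module.Finite.iff_addGroup_fg.1 inferInstance, h⟩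

theorem locally_of_isTorus {T : Over S} [GrpObj T] (hT : Red.IsTorus T) :
    TwC.Locally S TwC.Topology.fpqc (fun S' f => ∃ (M : Type) (_ : AddCommGroup M),
      Nonempty (Grp.mk (Red.bc f T) ≅ Grp.mk (Red.DS S' M))) := by
  obtain ⟨S', f, h1, h2, h3, hloc⟩ := hT
  refine ⟨S', f, h1, h2, h3, fun z => ?_⟩
  obtain ⟨U, hU, r, h⟩ := hloc z
  exact ⟨U, hU, Fin r → ℤ, inferInstance, h⟩

/-- A factorisation over the base change gives an inclusion there. -/
theorem le_of_bc_factor {R H' G : Over S} (u : R ⟶ G) (i' : H' ⟶ G) {Z : Scheme.{u}} (κ : Z ⟶ S)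
    (f : Red.bc κ R ⟶ Red.bc κ H') (hf : f ≫ (Over.pullback κ).map i' = (Over.pullback κ).map u) :
    LE u i' κ := by
  intro Y q hq h
  let Y' : Over Z := Over.mk q
  let ε : (Over.map κ).obj Y' ≅ Y := Over.isoMk (Iso.refl _) (by
    show 𝟙 _ ≫ Y.hom = q ≫ κ
    rw [Category.id_comp, hq])
  let g := bcEquiv κ R Y' (ε.hom ≫ h)
  refine ⟨ε.inv ≫ (bcEquiv κ H' Y').symm (g ≫ f), ?_⟩
  rw [Category.assoc, ← Adjunction.homEquiv_naturality_right_symm, Category.assoc, hf,
    Adjunction.homEquiv_naturality_right_symm, Equiv.symm_apply_apply, Category.assoc, Iso.inv_hom_id_assoc]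

/-- No geometric fibre has a torus of rank above `r`. -/
def Top (G : Over S) [GrpObj G] (r : ℕ) : Prop :=
  ∀ (K : Type u) [Field K] [IsAlgClosed K] (q : Spec (CommRingCat.of K) ⟶ S) (m : ℕ), Has (Red.bc q G) m → m ≤ r

theorem top_bc {G : Over S} [GrpObj G] {r : ℕ} (h : Top G r) {P : Scheme.{u}} (p : P ⟶ S) :
    Top (Red.bc p G) r := by
  intro K _ _ q m hm
  obtain ⟨θ, hθ⟩ := RedCharZeroLib.exists_bc_comp q p G
  haveI := hθ
  haveI : IsMonHom θ.inv := inferInstance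
  exact h K (q ≫ p) m (has_mono θ.inv hm)

/-- Over every base, tori factor through a split torus of greatest rank. -/
theorem exists_factor_DS (G : Over S) [GrpObj G] [IsCommMonObj G] [IsAffineHom G.hom] [Smooth G.hom] {r : ℕ}
    (hr : Top G r) (i : Red.DS S (Fin r → ℤ) ⟶ G) [IsMonHom i] [Mono i] {R : Over S} [GrpObj R]
    (hR : Red.IsTorus R) (u : R ⟶ G) [IsMonHom u] : ∃ f : R ⟶ Red.DS S (Fin r → ℤ), f ≫ i = u := by
  haveI := Transporter.isClosedImmersion_of_mono (locally_of_isTorus (isTorus_DS S r)) ‹IsAffineHom G.hom› i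
  have hnhd : ∀ s : S, ∃ U : S.Opens, s ∈ U ∧ LE u i U.ι := by
    intro s
    let K := AlgebraicClosure (S.residueField s)
    let q : Spec (CommRingCat.of K) ⟶ S := Red.geomPt s
    haveI : IsCommMonObj (Red.bc q G) := Functor.isCommMonObj_obj (F := Over.pullback q)
    haveI := isAffineHom_bc G q
    obtain ⟨m, v, hv, hv', -⟩ := exists_torus_rank (isTorus_bc hR q)
    haveI := hv; haveI := hv'
    obtain ⟨e, he⟩ := RedCharZeroLib.exists_DS_bc q (Fin r → ℤ)
    obtain ⟨w, hw, hw'⟩ := TorusField.exists_DS_iso K (Fin r → ℤ)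
    haveI := he; haveI := hw
    let a : sp K (TA K r) ≅ Red.bc q (Red.DS S (Fin r → ℤ)) := w ≪≫ e
    haveI : IsMonHom a.hom := inferInstanceAs (IsMonHom (w.hom ≫ e.hom))
    haveI : IsMonHom (M := Red.bc q (Red.DS S (Fin r → ℤ))) (N := Red.bc q G) ((Over.pullback q).map i) :=
      DiagRep.isMonHom_bc_map q i
    haveI : IsMonHom (M := Red.bc q R) (N := Red.bc q G) ((Over.pullback q).map u) := DiagRep.isMonHom_bc_map q u
    haveI : Mono ((Over.pullback q).map i) := by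
      haveI : (Over.pullback q).IsRightAdjoint := (Over.mapPullbackAdj q).isRightAdjoint
      infer_instance
    obtain ⟨f, hf⟩ := exists_factor_of_top (a.hom ≫ (Over.pullback q).map i) (fun m hm => hr K q m hm)
      (v.hom ≫ (Over.pullback q).map u)
    have hle : LE u i q := le_of_bc_factor u i q (v.inv ≫ f ≫ a.hom) (by
      rw [Category.assoc, Category.assoc, hf, Iso.inv_hom_id_assoc])
    refine EqNhd.exists_nhd_le (Or.inr inferInstance) (isMultTypeFT_of_isTorus hR) (isMultTypeFT_DS' S r) s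
      (geomPt_apply s ▸ (MultEq.le_field_iff q).1 hle) ?_
    exact (CentLocus.centAt_iff u _).2 fun Y _ _ g h => mul_comm _ _
  choose U hU hle using hnhd
  have hall : LE u i (𝟙 S) := MultEq.le_of_family (fun s => (U s).ι) (fun s => inferInstance)
    (fun t => ⟨t, ⟨t, hU t⟩, rfl⟩) fun s => by rw [Category.comp_id]; exact hle s
  obtain ⟨f, hf⟩ := hall R R.hom (Category.comp_id _) (𝟙 R)
  exact ⟨f, hf.trans (Category.id_comp u)⟩

theorem fromSpecResidueField_comp_mem {X Y : Scheme.{u}} (j : X ⟶ Y) (t : X) (V : Y.Opens) (ht : j t ∈ V)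
    (a : Spec (X.residueField t)) : (X.fromSpecResidueField t ≫ j) a ∈ V := by
  rw [Scheme.Hom.comp_apply, Scheme.fromSpecResidueField_apply]
  exact ht

/-- The universal subtorus of rank `n`. -/
theorem exists_cover (G : Over S) [GrpObj G] [IsAffineHom G.hom] [Smooth G.hom] (n : ℕ) :
    ∃ (W : Scheme.{u}) (g : W ⟶ S) (i : Red.DS W (Fin n → ℤ) ⟶ Red.bc g G), Smooth g ∧ IsMonHom i ∧ Mono i ∧
      ∀ s : S, Has (Red.geomFibre s G) n → s ∈ Set.range g := by
  obtain ⟨X, υ, ⟨hfam, huniv⟩, hsm⟩ := exists_hom_family G n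
  haveI := hsm
  haveI : IsMonHom (homOf υ) := isMonHom_homOf hfam
  haveI := isAffineHom_bc G X.hom
  have hW := MonoLocus.isOpen_locus (homOf υ) (DescHom.isMultTypeFT_bc (isMultTypeFT_DS' S n) X.hom)
  let W : X.left.Opens := ⟨_, hW⟩
  let T : Over S := Over.mk (W.ι ≫ X.hom)
  let a : T ⟶ X := Over.homMk W.ι rfl
  let φ := (Red.DS S (Fin n → ℤ) ◁ a) ≫ υ
  have hφ : AutFam.IsHomFamily _ G φ := fun Y g₁ g₂ t => by
    simp only [φ, ← Category.assoc, lift_whiskerLeft]
    exact hfam Y g₁ g₂ (t ≫ a)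
  haveI : IsMonHom (homOf φ) := isMonHom_homOf hφ
  have hkey : ∀ {F : Type u} [Field F] (z : Spec (CommRingCat.of F) ⟶ X.left),
      Inj υ z ↔ z (IsLocalRing.closedPoint F) ∈ W := fun z =>
    (ktriv_homOf_iff υ z).symm.trans (TrivLocus.triv_field_iff (u := MonoLocus.kin (homOf υ)) z)
  haveI hsep := isAffineHom_bc G T.hom
  haveI : Smooth (Red.bc T.hom G).hom := MorphismProperty.pullback_snd (P := @Smooth) _ _ inferInstance
  haveI : Mono (homOf φ).left := by
    refine S5261.result _ _ (DescHom.isMultTypeFT_bc (isMultTypeFT_DS' S n) T.hom) (Or.inr inferInstance) _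
      fun t => ?_
    refine (MonoLocus.mono_map_iff (homOf φ) _).2 ((ktriv_homOf_iff φ _).2 ((inj_whisker_iff υ a _).2 ?_))
    exact (hkey _).2 (fromSpecResidueField_comp_mem W.ι t W t.2 _)
  haveI : Mono (homOf φ) := Over.mono_of_mono_left _
  obtain ⟨e, he⟩ := RedCharZeroLib.exists_DS_bc T.hom (Fin n → ℤ)
  haveI := he
  refine ⟨W, T.hom, e.hom ≫ homOf φ, inferInstanceAs (Smooth (W.ι ≫ X.hom)), inferInstance, inferInstance,
    fun s hs => ?_⟩
  obtain ⟨i, hi, hm⟩ := hs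
  haveI := hi; haveI := hm
  obtain ⟨e', he'⟩ := RedCharZeroLib.exists_DS_bc (Red.geomPt s) (Fin n → ℤ)
  haveI := he'
  let T₀ : Over S := Over.mk (Red.geomPt s)
  let ψ : Red.bc T₀.hom (Red.DS S (Fin n → ℤ)) ⟶ Red.bc T₀.hom G := e'.inv ≫ i
  haveI : IsMonHom ψ := inferInstanceAs (IsMonHom (e'.inv ≫ i))
  haveI : Mono ψ := inferInstanceAs (Mono (e'.inv ≫ i))
  obtain ⟨φ₀, hφ₀⟩ := exists_homOf_eq ψ
  haveI : IsMonHom (homOf φ₀) := hφ₀ ▸ inferInstanceAs (IsMonHom ψ)
  obtain ⟨b, hb, -⟩ := huniv T₀ φ₀ (isHomFamily_of_isMonHom φ₀)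
  have h1 : Inj φ₀ (𝟙 T₀.left) := (ktriv_homOf_iff φ₀ _).1 ((mono_iff_ktriv_id _).1 (hφ₀ ▸ inferInstance))
  rw [← hb, inj_whisker_iff, Category.id_comp] at h1
  refine ⟨⟨_, (hkey b.left).1 h1⟩, ?_⟩
  show X.hom (b.left _) = s
  rw [← Scheme.Hom.comp_apply, Over.w b]
  exact geomPt_apply s

theorem has_of_isMaximalTorus {K : Type u} [Field K] [IsAlgClosed K] {G T : Over (Spec (CommRingCat.of K))}
    [GrpObj G] [GrpObj T] [IsCommMonObj G] [IsAffineHom G.hom] [Smooth G.hom] {i : T ⟶ G}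
    (hi : Red.IsMaximalTorus i) :
    ∃ r : ℕ, topologicalKrullDim ↥T.left = r ∧ Has G r ∧ ∀ m, Has G m → m ≤ r := by
  obtain ⟨hi, hm, hT, hmax⟩ := hi
  haveI := hi; haveI := hm
  obtain ⟨r, v, hv, hv', hd⟩ := exists_torus_rank hT
  haveI := hv; haveI := hv'
  have h0 : Has G r := (has_iff G r).2 ⟨v.hom ≫ i, inferInstance, inferInstance⟩
  refine ⟨r, hd, h0, fun m hm' => ?_⟩
  obtain ⟨j, hj, hjm⟩ := (has_iff G m).1 hm'
  haveI := hj; haveI := hjm
  obtain ⟨r', i', p₁, p₂, hi', him', hp₁, hp₂, e₁, e₂⟩ := exists_join (v.hom ≫ i) j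
  haveI := hi'; haveI := him'; haveI := hp₁; haveI := hp₂
  haveI : Mono (p₂ ≫ i') := e₂.symm ▸ inferInstance
  haveI : Mono p₂ := mono_of_mono p₂ i'
  refine (le_and_isIso_of_mono p₂).1.trans (le_of_eq ?_)
  let s₀ : ↥(Spec (CommRingCat.of K)) := IsLocalRing.closedPoint K
  let K' := AlgebraicClosure ((Spec (CommRingCat.of K)).residueField s₀)
  let q : Spec (CommRingCat.of K') ⟶ Spec (CommRingCat.of K) := Red.geomPt s₀
  have hdim : ∀ n : ℕ, topologicalKrullDim ↥(Red.bc q (sp K (TA K n))).left = n := fun n => by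
    obtain ⟨w, -, -⟩ := TorusField.exists_DS_iso K (Fin n → ℤ)
    obtain ⟨e, -⟩ := RedCharZeroLib.exists_DS_bc q (Fin n → ℤ)
    obtain ⟨w', -, -⟩ := TorusField.exists_DS_iso K' (Fin n → ℤ)
    let ε : sp K' (TA K' n) ≅ Red.bc q (sp K (TA K n)) := w' ≪≫ e ≪≫ (Over.pullback q).mapIso w.symm
    let h := Scheme.homeoOfIso ((Over.forget _).mapIso ε)
    rw [← topologicalKrullDim_sp_TA (K := K') n]
    exact (IsHomeomorph.topologicalKrullDim_eq h h.isHomeomorph).symm
  have hT' : Red.IsTorus (Red.bc q (sp K (TA K r'))) := by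
    obtain ⟨w, hw, -⟩ := TorusField.exists_DS_iso K (Fin r' → ℤ)
    haveI := hw
    exact isTorus_bc (isTorus_of_iso w (isTorus_DS _ r')) q
  haveI : IsMonHom (M := Red.bc q (sp K (TA K r'))) (N := Red.bc q G) ((Over.pullback q).map i') :=
    DiagRep.isMonHom_bc_map q i'
  haveI : Mono ((Over.pullback q).map i') := by
    haveI : (Over.pullback q).IsRightAdjoint := (Over.mapPullbackAdj q).isRightAdjoint
    infer_instance
  haveI := hmax s₀ (Red.bc q (sp K (TA K r'))) ((Over.pullback q).map i') ((Over.pullback q).map (v.inv ≫ p₁)) hT'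
    (by rw [← Functor.map_comp, Category.assoc, e₁, Iso.inv_hom_id_assoc])
  let ε : Red.bc q (sp K (TA K r)) ≅ Red.bc q (sp K (TA K r')) :=
    (Over.pullback q).mapIso v ≪≫ asIso ((Over.pullback q).map (v.inv ≫ p₁))
  let h := Scheme.homeoOfIso ((Over.forget _).mapIso ε)
  have := (hdim r).symm.trans ((IsHomeomorph.topologicalKrullDim_eq h h.isHomeomorph).trans (hdim r'))
  exact_mod_cast this.symm

/-- The greatest rank is locally constant when the reductive rank is. -/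
theorem exists_nhd_top (G : Over S) [GrpObj G] [IsCommMonObj G] [IsAffineHom G.hom] [Smooth G.hom]
    (hr : SGA3x.RedRankLocallyConstant G) (s : S) :
    ∃ (U : S.Opens) (r : ℕ), s ∈ U ∧ ∀ t ∈ U, Has (Red.geomFibre t G) r ∧ ∀ m, Has (Red.geomFibre t G) m → m ≤ r := by
  obtain ⟨U, hs, d, hd⟩ := hr s
  have key : ∀ t ∈ U, ∃ r : ℕ, d = r ∧ Has (Red.geomFibre t G) r ∧ ∀ m, Has (Red.geomFibre t G) m → m ≤ r := by
    intro t ht
    obtain ⟨T, _, i, hi, rfl⟩ := hd t ht
    haveI : IsCommMonObj (Red.geomFibre t G) := Functor.isCommMonObj_obj (F := Over.pullback (Red.geomPt t))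
    haveI := isAffineHom_bc G (Red.geomPt t)
    haveI : Smooth (Red.geomFibre t G).hom := MorphismProperty.pullback_snd (P := @Smooth) _ _ inferInstance
    exact has_of_isMaximalTorus hi
  obtain ⟨r, hdr, -, -⟩ := key s hs
  refine ⟨U, r, hs, fun t ht => ?_⟩
  obtain ⟨r', hdr', h1, h2⟩ := key t ht
  obtain rfl : r' = r := by exact_mod_cast hdr'.symm.trans hdr
  exact ⟨h1, h2⟩

theorem hcov_of_open {P : Scheme.{u}} (f : P ⟶ S) [UniversallyOpen f] [Surjective f] (V : S.Opens)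
    (hV : IsAffineOpen V) : ∃ W : P.Opens, IsCompact (W : Set P) ∧ f.base '' (W : Set P) = (V : Set S) := by
  have hq : ∀ x : V, ∃ B : P.Opens, IsAffineOpen B ∧ x.1 ∈ f '' (B : Set P) ∧ B ≤ f ⁻¹ᵁ V := by
    intro x
    obtain ⟨y, hy⟩ := f.surjective x.1
    obtain ⟨B, hB, hyB, hBV⟩ := exists_isAffineOpen_mem_and_subset (X := P) (x := y) (U := f ⁻¹ᵁ V)
      (by show f y ∈ V; rw [hy]; exact x.2)
    exact ⟨B, hB, ⟨y, hyB, hy⟩, hBV⟩
  choose B hB hxB hBV using hq
  obtain ⟨F, hF⟩ := hV.isCompact.elim_finite_subcover (fun x : V => f '' (B x : Set P))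
    (fun x => f.isOpenMap _ (B x).isOpen) fun z hz => Set.mem_iUnion.2 ⟨⟨z, hz⟩, hxB ⟨z, hz⟩⟩
  refine ⟨⨆ x : F, B x.1, ?_, Set.Subset.antisymm ?_ ?_⟩
  · rw [TopologicalSpace.Opens.coe_iSup]
    exact isCompact_iUnion fun x => (hB x.1).isCompact
  · rintro _ ⟨z, hz, rfl⟩
    obtain ⟨x, hx⟩ := TopologicalSpace.Opens.mem_iSup.1 hz
    exact hBV x.1 hx
  · intro z hz
    obtain ⟨x, hx, w, hw, rfl⟩ := Set.mem_iUnion₂.1 (hF hz)
    exact ⟨w, TopologicalSpace.Opens.mem_iSup.2 ⟨⟨x, hx⟩, hw⟩, rfl⟩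

/-- A commutative smooth affine group of locally constant reductive rank has a greatest torus, which is maximal. -/
theorem exists_greatest_torus (G : Over S) [GrpObj G] [IsCommMonObj G] [IsAffineHom G.hom] [Smooth G.hom]
    (hr : SGA3x.RedRankLocallyConstant G) :
    ∃ (T : Over S) (_ : GrpObj T) (i : T ⟶ G), Red.IsMaximalTorus i ∧
      ∀ (R : Over S) [GrpObj R] (j : R ⟶ G) [IsMonHom j] [Mono j], Red.IsTorus R → ∃ f : R ⟶ T, f ≫ i = j := by
  choose U r hsU hU using exists_nhd_top G hr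
  choose W g i hsm hi hm hrange using fun s => exists_cover G (r s)
  let Q : S → Scheme.{u} := fun s => ((g s ⁻¹ᵁ U s : (W s).Opens) : Scheme.{u})
  let ϖ : ∀ s, Q s ⟶ S := fun s => (g s ⁻¹ᵁ U s).ι ≫ g s
  haveI hϖ : ∀ s, Smooth (ϖ s) := fun s => by
    haveI := hsm s
    exact inferInstanceAs (Smooth ((g s ⁻¹ᵁ U s).ι ≫ g s))
  haveI : Flat (Limits.Sigma.desc ϖ) := IsZariskiLocalAtSource.sigmaDesc fun s => inferInstance
  haveI : LocallyOfFinitePresentation (Limits.Sigma.desc ϖ) := IsZariskiLocalAtSource.sigmaDesc fun s => inferInstance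
  haveI : Surjective (Limits.Sigma.desc ϖ) := ⟨fun s => by
    obtain ⟨z, hz⟩ := hrange s s (hU s s (hsU s)).1
    refine ⟨Sigma.ι Q s ⟨z, show g s z ∈ U s from hz.symm ▸ hsU s⟩, ?_⟩
    rw [← Scheme.Hom.comp_apply, Sigma.ι_desc]
    exact hz⟩
  haveI hfpqc : DescLib.Fpqc (Limits.Sigma.desc ϖ) :=
    ⟨Scheme.fppfPrecoverage_le_fpqcPrecoverage _ (Scheme.Hom.singleton_mem_fppfPrecoverage _)⟩
  have htop : ∀ s, Top (Red.bc (ϖ s) G) (r s) := by
    intro s K _ _ q m hm'
    obtain ⟨θ, hθ⟩ := RedCharZeroLib.exists_bc_comp q (ϖ s) G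
    haveI := hθ
    haveI : IsMonHom θ.inv := inferInstance
    let t := (q ≫ ϖ s) (IsLocalRing.closedPoint K)
    have ht : t ∈ U s := (q (IsLocalRing.closedPoint K)).2
    obtain ⟨V, hV⟩ := exists_open G m
    have h1 := (hV K (q ≫ ϖ s)).1 (has_mono θ.inv hm')
    have h2 := (hV _ (Red.geomPt t)).2 (by rw [geomPt_apply]; exact h1)
    exact (hU s t ht).2 m h2
  have hres : ∀ s, ∃ ii : Red.DS (Q s) (Fin (r s) → ℤ) ⟶ Red.bc (ϖ s) G, IsMonHom ii ∧ Mono ii := by
    intro s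
    haveI := hi s; haveI := hm s
    let o := (g s ⁻¹ᵁ U s).ι
    obtain ⟨e, he⟩ := RedCharZeroLib.exists_DS_bc o (Fin (r s) → ℤ)
    obtain ⟨θ, hθ⟩ := RedCharZeroLib.exists_bc_comp o (g s) G
    haveI := he; haveI := hθ
    haveI : IsMonHom θ.inv := inferInstance
    haveI : IsMonHom (M := Red.bc o (Red.DS (W s) (Fin (r s) → ℤ))) (N := Red.bc o (Red.bc (g s) G))
        ((Over.pullback o).map (i s)) := DiagRep.isMonHom_bc_map o (i s)
    haveI : Mono ((Over.pullback o).map (i s)) := by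
      haveI : (Over.pullback o).IsRightAdjoint := (Over.mapPullbackAdj o).isRightAdjoint
      infer_instance
    exact ⟨e.hom ≫ (Over.pullback o).map (i s) ≫ θ.inv, inferInstance, inferInstance⟩
  choose ii hii hiim using hres
  have hfac : ∀ s {R : Over (Q s)} [GrpObj R], Red.IsTorus R → ∀ (u : R ⟶ Red.bc (ϖ s) G) [IsMonHom u],
      ∃ f : R ⟶ Red.DS (Q s) (Fin (r s) → ℤ), f ≫ ii s = u := fun s R _ hR u _ => by
    haveI : IsCommMonObj (Red.bc (ϖ s) G) := Functor.isCommMonObj_obj (F := Over.pullback (ϖ s))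
    haveI := isAffineHom_bc G (ϖ s)
    haveI : Smooth (Red.bc (ϖ s) G).hom := MorphismProperty.pullback_snd (P := @Smooth) _ _ inferInstance
    haveI := hii s; haveI := hiim s
    exact exists_factor_DS (Red.bc (ϖ s) G) (htop s) (ii s) hR u
  haveI : ∀ s, IsAffineHom (Red.DS (Q s) (Fin (r s) → ℤ)).hom := fun s =>
    MultEq.isAffineHom_of_isMultTypeFT (isMultTypeFT_DS' _ _)
  have hloc : ∀ k l, LocIn (ϖ l) G (ii l) ((bcEquiv (ϖ k) G _).symm (ii k)) := by
    intro k l Z z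
    haveI := hii k; haveI := hiim k; haveI := hii l; haveI := hiim l
    let p₁ : pullback (ϖ k) (ϖ l) ⟶ Q k := pullback.fst _ _
    let p₂ : pullback (ϖ k) (ϖ l) ⟶ Q l := pullback.snd _ _
    let T₁ := Red.DS (Q k) (Fin (r k) → ℤ)
    let x : Z.left ⟶ pullback (ϖ k) (ϖ l) := pullback.lift (z.left ≫ T₁.hom) Z.hom (by
      rw [Category.assoc]
      exact Over.w z)
    let c : pullback (ϖ k) (ϖ l) ⟶ S := p₂ ≫ ϖ l
    let c₁ : Red.bc p₁ (Red.bc (ϖ k) G) ≅ Red.bc c G := ActBC.bcCompIso p₁ (ϖ k) G pullback.condition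
    let c₂ : Red.bc p₂ (Red.bc (ϖ l) G) ≅ Red.bc c G := ActBC.bcCompIso p₂ (ϖ l) G rfl
    haveI : IsMonHom c₁.hom := ActBC.bcCompIso_isMonHom _ _ _
    haveI : IsMonHom c₂.hom := ActBC.bcCompIso_isMonHom _ _ _
    haveI : IsMonHom (M := Red.bc p₁ T₁) (N := Red.bc p₁ (Red.bc (ϖ k) G)) ((Over.pullback p₁).map (ii k)) :=
      DiagRep.isMonHom_bc_map p₁ (ii k)
    haveI : IsMonHom (M := Red.bc p₂ (Red.DS (Q l) (Fin (r l) → ℤ))) (N := Red.bc p₂ (Red.bc (ϖ l) G))
        ((Over.pullback p₂).map (ii l)) := DiagRep.isMonHom_bc_map p₂ (ii l)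
    haveI : Mono ((Over.pullback p₂).map (ii l)) := by
      haveI : (Over.pullback p₂).IsRightAdjoint := (Over.mapPullbackAdj p₂).isRightAdjoint
      infer_instance
    obtain ⟨e, he⟩ := RedCharZeroLib.exists_DS_bc p₂ (Fin (r l) → ℤ)
    haveI := he
    haveI : IsCommMonObj (Red.bc c G) := Functor.isCommMonObj_obj (F := Over.pullback c)
    haveI := isAffineHom_bc G c
    haveI : Smooth (Red.bc c G).hom := MorphismProperty.pullback_snd (P := @Smooth) _ _ inferInstance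
    have htopc : Top (Red.bc c G) (r l) := fun K _ _ q m hm' =>
      top_bc (htop l) p₂ K q m (by
        haveI : IsMonHom (M := Red.bc q (Red.bc c G)) (N := Red.bc q (Red.bc p₂ (Red.bc (ϖ l) G)))
            ((Over.pullback q).map c₂.inv) := DiagRep.isMonHom_bc_map q c₂.inv
        exact has_mono ((Over.pullback q).map c₂.inv) hm')
    obtain ⟨f, hf⟩ := exists_factor_DS (Red.bc c G) htopc (e.hom ≫ (Over.pullback p₂).map (ii l) ≫ c₂.hom)
      (isTorus_bc (isTorus_DS (Q k) (r k)) p₁) ((Over.pullback p₁).map (ii k) ≫ c₁.hom)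
    let Zx : Over (pullback (ϖ k) (ϖ l)) := Over.mk x
    let b : Zx ⟶ Red.bc p₁ T₁ := bcEquiv p₁ T₁ Zx (Over.homMk z.left (pullback.lift_fst _ _ _).symm)
    let fe := f ≫ e.hom
    have hfe : fe ≫ (Over.pullback p₂).map (ii l) ≫ c₂.hom = (Over.pullback p₁).map (ii k) ≫ c₁.hom := by
      rw [Category.assoc]
      exact hf
    refine ⟨Over.homMk ((b ≫ fe).left ≫ pullback.fst (Red.DS (Q l) (Fin (r l) → ℤ)).hom p₂) ?_, ?_⟩
    · have h := Over.w (b ≫ fe)
      rw [Category.assoc]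
      erw [pullback.condition]
      rw [← Category.assoc, show pullback.snd (Red.DS (Q l) (Fin (r l) → ℤ)).hom p₂ =
        (Red.bc p₂ (Red.DS (Q l) (Fin (r l) → ℤ))).hom from rfl]
      erw [h]
      exact pullback.lift_snd _ _ _
    · apply (bcEquiv (ϖ l) G Z).symm.injective
      rw [Equiv.symm_apply_apply, Adjunction.homEquiv_counit, Adjunction.homEquiv_counit]
      refine Over.OverMorphism.ext ?_
      have key := congrArg (fun m => b.left ≫ Over.Hom.left m ≫ pullback.fst G.hom c) hfe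
      simp only [Over.comp_left, Category.assoc, c₁, c₂, ActBC.bcCompIso_hom_left_fst,
        ActBC.pullback_map_left_fst_assoc] at key
      have hb : b.left ≫ pullback.fst T₁.hom p₁ = z.left := by
        have h := congrArg Over.Hom.left ((bcEquiv p₁ T₁ Zx).symm_apply_apply
          (Over.homMk z.left (pullback.lift_fst _ _ _).symm))
        rw [Adjunction.homEquiv_counit] at h
        simpa [b, Over.mapPullbackAdj] using h
      rw [reassoc_of% hb] at key
      simpa [Over.mapPullbackAdj] using key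
  obtain ⟨T, gT, i₀, hi₀, hm₀, haff, hlift, hiso⟩ := exists_descended G ϖ ii hloc
  haveI := hi₀; haveI := hm₀
  refine ⟨T, gT, i₀, ⟨hi₀, hm₀, ?_, ?_⟩, ?_⟩
  · refine ⟨∐ Q, Limits.Sigma.desc ϖ, inferInstance, inferInstance,
      fun V hV => hcov_of_open (Limits.Sigma.desc ϖ) V hV, fun z => ?_⟩
    obtain ⟨l, w, hw⟩ := DescLib.exists_sigma_mem z
    let o := Sigma.ι Q l
    let l₀ : (o.opensRange : Scheme.{u}) ⟶ Q l := o.isoOpensRange.inv
    have hl₀ : l₀ ≫ ϖ l = o.opensRange.ι ≫ Limits.Sigma.desc ϖ := by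
      rw [← o.isoOpensRange_inv_comp, Category.assoc, Sigma.ι_desc]
    refine ⟨o.opensRange, ⟨w, hw⟩, r l, ?_⟩
    obtain ⟨el, hel, -⟩ := hiso l
    haveI := hel
    let cT : Red.bc l₀ (Red.bc (ϖ l) T) ≅ Red.bc (o.opensRange.ι ≫ Limits.Sigma.desc ϖ) T :=
      ActBC.bcCompIso l₀ (ϖ l) T hl₀
    haveI : IsMonHom cT.hom := ActBC.bcCompIso_isMonHom _ _ _
    haveI : IsMonHom cT.inv := inferInstance
    haveI : IsMonHom (M := Red.bc l₀ (Red.bc (ϖ l) T)) (N := Red.bc l₀ (Red.DS (Q l) (Fin (r l) → ℤ)))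
        ((Over.pullback l₀).map el.inv) := DiagRep.isMonHom_bc_map l₀ el.inv
    obtain ⟨e', he'⟩ := RedCharZeroLib.exists_DS_bc l₀ (Fin (r l) → ℤ)
    haveI := he'
    let E : Red.bc (o.opensRange.ι ≫ Limits.Sigma.desc ϖ) T ≅ Red.DS (o.opensRange : Scheme.{u}) (Fin (r l) → ℤ) :=
      cT.symm ≪≫ (Over.pullback l₀).mapIso el.symm ≪≫ e'.symm
    haveI : IsMonHom E.hom := inferInstanceAs (IsMonHom (cT.inv ≫ (Over.pullback l₀).map el.inv ≫ e'.inv))
    exact ⟨Grp.mkIso E (IsMonHom.one_hom E.hom) (IsMonHom.mul_hom E.hom)⟩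
  · intro s T' _ j _ _ f hT' hf
    let K := AlgebraicClosure (S.residueField s)
    let q : Spec (CommRingCat.of K) ⟶ S := Red.geomPt s
    obtain ⟨z, hz⟩ := (Limits.Sigma.desc ϖ).surjective s
    obtain ⟨l, w, hw⟩ := DescLib.exists_sigma_mem z
    have hwl : ϖ l w = s := by
      rw [← hz, ← hw, ← Scheme.Hom.comp_apply, Sigma.ι_desc]
    obtain ⟨y₀, -, -⟩ := Scheme.Pullback.exists_preimage_pullback (f := ϖ l) (g := q) w
      (IsLocalRing.closedPoint K) (hwl.trans (geomPt_apply s).symm)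
    obtain ⟨y', hy', -⟩ := exists_field_point (pullback.snd (ϖ l) q) ⊤ ⟨y₀, trivial⟩
    let y : Spec (CommRingCat.of K) ⟶ Q l := y' ≫ pullback.fst (ϖ l) q
    have hy : y ≫ ϖ l = q := by
      simp only [y, Category.assoc, pullback.condition]
      rw [reassoc_of% hy']
    obtain ⟨el, hel, hel'⟩ := hiso l
    obtain ⟨e, he⟩ := RedCharZeroLib.exists_DS_bc y (Fin (r l) → ℤ)
    haveI := he
    haveI := hii l; haveI := hiim l
    let cG : Red.bc y (Red.bc (ϖ l) G) ≅ Red.bc q G := ActBC.bcCompIso y (ϖ l) G hy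
    let cT : Red.bc y (Red.bc (ϖ l) T) ≅ Red.bc q T := ActBC.bcCompIso y (ϖ l) T hy
    haveI : IsMonHom cG.hom := ActBC.bcCompIso_isMonHom _ _ _
    haveI : IsMonHom cG.inv := inferInstance
    haveI : IsMonHom (M := Red.bc y (Red.DS (Q l) (Fin (r l) → ℤ))) (N := Red.bc y (Red.bc (ϖ l) G))
        ((Over.pullback y).map (ii l)) := DiagRep.isMonHom_bc_map y (ii l)
    haveI : Mono ((Over.pullback y).map (ii l)) := by
      haveI : (Over.pullback y).IsRightAdjoint := (Over.mapPullbackAdj y).isRightAdjoint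
      infer_instance
    haveI : IsCommMonObj (Red.bc q G) := Functor.isCommMonObj_obj (F := Over.pullback q)
    haveI := isAffineHom_bc G q
    haveI : Smooth (Red.bc q G).hom := MorphismProperty.pullback_snd (P := @Smooth) _ _ inferInstance
    have htopq : Top (Red.bc q G) (r l) := fun K' _ _ q' m hm' =>
      top_bc (htop l) y K' q' m (by
        haveI : IsMonHom (M := Red.bc q' (Red.bc q G)) (N := Red.bc q' (Red.bc y (Red.bc (ϖ l) G)))
            ((Over.pullback q').map cG.inv) := DiagRep.isMonHom_bc_map q' cG.inv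
        exact has_mono ((Over.pullback q').map cG.inv) hm')
    obtain ⟨f₀, hf₀⟩ := exists_factor_DS (Red.bc q G) htopq (e.hom ≫ (Over.pullback y).map (ii l) ≫ cG.hom) hT' j
    let zt : T' ⟶ Red.bc q T := f₀ ≫ e.hom ≫ (Over.pullback y).map el.hom ≫ cT.hom
    have hzt : zt ≫ (Over.pullback q).map i₀ = j := by
      simp only [zt, Category.assoc]
      rw [show cT.hom ≫ (Over.pullback q).map i₀ =
          (Over.pullback y).map ((Over.pullback (ϖ l)).map i₀) ≫ cG.hom from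
        (ActBC.bcCompIso_hom_naturality y (ϖ l) hy i₀).symm, ← Category.assoc ((Over.pullback y).map el.hom),
        ← Functor.map_comp, hel']
      exact hf₀
    haveI : Mono ((Over.pullback q).map i₀) := by
      haveI : (Over.pullback q).IsRightAdjoint := (Over.mapPullbackAdj q).isRightAdjoint
      infer_instance
    refine ⟨zt, ?_, ?_⟩
    · rw [← cancel_mono ((Over.pullback q).map i₀), Category.assoc, hzt, hf, Category.id_comp]
    · rw [← cancel_mono j, Category.assoc, hf, hzt, Category.id_comp]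
  · intro R _ j _ _ hR
    refine hlift R j fun l Z z => ?_
    haveI : IsMonHom (M := Red.bc (ϖ l) R) (N := Red.bc (ϖ l) G) ((Over.pullback (ϖ l)).map j) :=
      DiagRep.isMonHom_bc_map (ϖ l) j
    obtain ⟨f, hf⟩ := hfac l (isTorus_bc hR (ϖ l)) ((Over.pullback (ϖ l)).map j)
    exact ⟨bcEquiv (ϖ l) R Z z ≫ f, by rw [Category.assoc, hf, Adjunction.homEquiv_naturality_right]⟩

end Groth.Agent.RedRank
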