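import Groth.Agent.RedRankLib.Open
import Groth.Prelude.Def_SGA3x

/-!
Maximal tori of geometric fibres exist.
-/

set_option autoImplicit false

noncomputable section

universe u

open CategoryTheory CategoryTheory.Limits MonoidalCategory CartesianMonoidalCategory AlgebraicGeometry CoactBr
open scoped MonObj

namespace Groth.Agent.RedRank

attribute [local instance] CoactBr.braidedAlgSpecOf

variable {S : Scheme.{u}} {K : Type u} [Field K] [IsAlgClosed K]

theorem geomPt_apply (s : S) :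
    Red.geomPt s (IsLocalRing.closedPoint (AlgebraicClosure (S.residueField s))) = s := by
  rw [Scheme.Hom.comp_apply]
  exact Scheme.fromSpecResidueField_apply _ _

/-- The dimension of a torus lying in a fibre is witnessed by a split subtorus. -/
theorem has_of_torus {G : Over (Spec (CommRingCat.of K))} [GrpObj G] {T : Over (Spec (CommRingCat.of K))} [GrpObj T]
    (i : T ⟶ G) [IsMonHom i] [Mono i] (hT : Red.IsTorus T) {n : ℕ}
    (hn : (n : WithBot ℕ∞) ≤ topologicalKrullDim ↥T.left) : Has G n := by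
  obtain ⟨r, v, hv, hv', hd⟩ := exists_torus_rank hT
  haveI := hv; haveI := hv'
  rw [hd] at hn
  obtain ⟨j, hj, hjm⟩ := exists_subtorus (K := K) (show n ≤ r by exact_mod_cast hn)
  haveI := hj; haveI := hjm
  exact (has_iff G n).2 ⟨j ≫ v.hom ≫ i, inferInstance, inferInstance⟩

theorem isAffineHom_bc (G : Over S) [IsAffineHom G.hom] {P : Scheme.{u}} (p : P ⟶ S) :
    IsAffineHom (Red.bc p G).hom :=
  MorphismProperty.pullback_snd (P := @IsAffineHom) _ _ inferInstance

/-- A subtorus of greatest rank is maximal. -/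
theorem exists_maximal (G : Over S) [GrpObj G] [IsAffineHom G.hom] [Smooth G.hom]
    (p : Spec (CommRingCat.of K) ⟶ S) {n : ℕ} (h : Has (Red.bc p G) n) :
    ∃ (r : ℕ) (i : Red.DS (Spec (CommRingCat.of K)) (Fin r → ℤ) ⟶ Red.bc p G),
      Red.IsMaximalTorus i ∧ n ≤ r ∧
      topologicalKrullDim ↥(Red.DS (Spec (CommRingCat.of K)) (Fin r → ℤ)).left = r ∧
      ∀ m : ℕ, Has (Red.bc p G) m → m ≤ r := by
  haveI := isAffineHom_bc G p
  haveI : Smooth (Red.bc p G).hom := MorphismProperty.pullback_snd (P := @Smooth) _ _ inferInstance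
  obtain ⟨b, hb⟩ := exists_rank_bound (Red.bc p G)
  have hbdd : ∀ m : ℕ, Has (Red.bc p G) m → m ≤ b := fun m hm => by
    obtain ⟨i, hi, him⟩ := (has_iff _ m).1 hm
    exact hb m i hi him
  obtain ⟨r, hr, hmax⟩ : ∃ r, Has (Red.bc p G) r ∧ ∀ m, Has (Red.bc p G) m → m ≤ r :=
    ⟨sSup {m | Has (Red.bc p G) m}, Nat.sSup_mem (s := {m | Has (Red.bc p G) m}) ⟨n, h⟩ ⟨b, fun m hm => hbdd m hm⟩,
      fun m hm => le_csSup ⟨b, fun m hm => hbdd m hm⟩ hm⟩
  obtain ⟨i, hi, him⟩ := hr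
  haveI := hi; haveI := him
  have hdim : topologicalKrullDim ↥(Red.DS (Spec (CommRingCat.of K)) (Fin r → ℤ)).left = r := by
    obtain ⟨w, -, -⟩ := TorusField.exists_DS_iso K (Fin r → ℤ)
    let e := Scheme.homeoOfIso ((Over.forget _).mapIso w)
    rw [← topologicalKrullDim_sp_TA (K := K) r]
    exact (IsHomeomorph.topologicalKrullDim_eq e e.isHomeomorph).symm
  refine ⟨r, i, ⟨hi, him, isTorus_DS _ r, ?_⟩, hmax n h, hdim, hmax⟩
  intro s T' _ j _ _ f hT' hf
  let K' := AlgebraicClosure ((Spec (CommRingCat.of K)).residueField s)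
  let g : Spec (CommRingCat.of K') ⟶ Spec (CommRingCat.of K) := Red.geomPt s
  obtain ⟨r', v', hv, hv', -⟩ := exists_torus_rank hT'
  haveI := hv; haveI := hv'
  obtain ⟨θ, hθ⟩ := RedCharZeroLib.exists_bc_comp g p G
  haveI := hθ
  haveI : IsMonHom θ.inv := inferInstance
  have h1 : Has (Red.bc (g ≫ p) G) r' :=
    (has_iff _ r').2 ⟨v'.hom ≫ j ≫ θ.inv, inferInstance, inferInstance⟩
  obtain ⟨U, hU⟩ := exists_open G r'
  have h2 : Has (Red.bc p G) r' := by
    refine (hU K p).2 ?_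
    have := (hU K' (g ≫ p)).1 h1
    rwa [Scheme.Hom.comp_apply, show g (IsLocalRing.closedPoint K') = IsLocalRing.closedPoint K from
      Subsingleton.elim (α := PrimeSpectrum K) _ _] at this
  haveI hbm : IsMonHom (M := Red.bc g (Red.DS (Spec (CommRingCat.of K)) (Fin r → ℤ))) (N := Red.bc g (Red.bc p G))
      ((Over.pullback g).map i) := DiagRep.isMonHom_bc_map g i
  haveI : Mono ((Over.pullback g).map i) := by
    haveI : (Over.pullback g).IsRightAdjoint := (Over.mapPullbackAdj g).isRightAdjoint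
    infer_instance
  haveI hfj : IsMonHom (f ≫ j) := hf.symm ▸ hbm
  haveI : Mono (f ≫ j) := hf.symm ▸ inferInstance
  haveI : Mono f := mono_of_mono f j
  haveI : IsMonHom f := DiagRep.isMonHom_of_comp_mono f j
  obtain ⟨e, he⟩ := RedCharZeroLib.exists_DS_bc g (Fin r → ℤ)
  haveI := he
  obtain ⟨w, hw, hw'⟩ := TorusField.exists_DS_iso K' (Fin r → ℤ)
  haveI := hw
  let a : sp K' (TA K' r) ≅ Red.bc g (Red.DS (Spec (CommRingCat.of K)) (Fin r → ℤ)) := w ≪≫ e
  haveI : IsMonHom a.hom := inferInstanceAs (IsMonHom (w.hom ≫ e.hom))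
  obtain ⟨hle, hiso⟩ := le_and_isIso_of_mono (a.hom ≫ f ≫ v'.inv)
  haveI := hiso (le_antisymm hle (hmax r' h2))
  exact IsIso.of_isIso_fac_left (f := a.hom) (g := f) (h := (a.hom ≫ f ≫ v'.inv) ≫ v'.hom) (by simp)

theorem setOf_redRank_ge (G : Over S) [GrpObj G] [IsAffineHom G.hom] [Smooth G.hom] (n : ℕ) :
    {s : S | ∃ r : WithBot ℕ∞, SGA3x.HasRedRank G s r ∧ (n : WithBot ℕ∞) ≤ r} =
      {s : S | Has (Red.geomFibre s G) n} := by
  ext s
  constructor
  · rintro ⟨r, ⟨T, _, i, ⟨hi, hm, hT, -⟩, rfl⟩, hn⟩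
    haveI := hi; haveI := hm
    exact has_of_torus i hT hn
  · intro h
    obtain ⟨r, i, hi, hnr, hd, -⟩ := exists_maximal G (Red.geomPt s) h
    exact ⟨_, ⟨_, _, i, hi, hd⟩, by exact_mod_cast hnr⟩

theorem isOpen_redRank_ge (G : Over S) [GrpObj G] [IsAffineHom G.hom] [Smooth G.hom] (n : ℕ) :
    IsOpen {s : S | ∃ r : WithBot ℕ∞, SGA3x.HasRedRank G s r ∧ (n : WithBot ℕ∞) ≤ r} := by
  rw [setOf_redRank_ge]
  obtain ⟨U, hU⟩ := exists_open G n
  convert U.2 using 1
  ext s
  refine (hU _ (Red.geomPt s)).trans ?_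
  rw [geomPt_apply]
  rfl

end Groth.Agent.RedRank
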