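import Groth.Agent.RedRankLib.Fam
import Groth.Agent.RedRankLib.Tori
import Groth.Agent.HomRepLib.Main
import Groth.Agent.DescHomLib.MultBC
import Mathlib.AlgebraicGeometry.AlgClosed.Basic
import Mathlib.AlgebraicGeometry.Morphisms.UniversallyOpen

/-!
Split subtori of the geometric fibres form an open condition, and maximal ones exist.
-/

set_option autoImplicit false

noncomputable section

universe u

open CategoryTheory CategoryTheory.Limits MonoidalCategory CartesianMonoidalCategory AlgebraicGeometry CoactBr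
open scoped MonObj

namespace Groth.Agent.RedRank

open MonoLocus (KTriv)

attribute [local instance] CoactBr.braidedAlgSpecOf

variable {S : Scheme.{u}}

/-- A subtorus of rank `n`. -/
def Has {P : Scheme.{u}} (G : Over P) [GrpObj G] (n : ℕ) : Prop :=
  ∃ i : Red.DS P (Fin n → ℤ) ⟶ G, IsMonHom i ∧ Mono i

theorem nonempty_grpIso_top (S : Scheme.{u}) (M : Type) [AddCommGroup M] :
    Nonempty (Grp.mk (Red.bc ((⊤ : S.Opens).ι ≫ 𝟙 S) (Red.DS S M)) ≅ Grp.mk (Red.DS ((⊤ : S.Opens) : Scheme.{u}) M)) := by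
  obtain ⟨e, he⟩ := RedCharZeroLib.exists_DS_bc ((⊤ : S.Opens).ι ≫ 𝟙 S) M
  haveI := he
  haveI : IsMonHom e.symm.hom := inferInstanceAs (IsMonHom e.inv)
  exact ⟨Grp.mkIso e.symm (IsMonHom.one_hom e.symm.hom) (IsMonHom.mul_hom e.symm.hom)⟩

theorem hcov_id (S : Scheme.{u}) :
    ∀ V : S.Opens, IsAffineOpen V → ∃ W : S.Opens, IsCompact (W : Set S) ∧ (𝟙 S : S ⟶ S).base '' (W : Set S) = (V : Set S) :=
  fun V hV => ⟨V, hV.isCompact, Set.image_id _⟩

theorem isMultTypeFT_DS' (S : Scheme.{u}) (n : ℕ) : SGA3x.IsMultTypeFT (Red.DS S (Fin n → ℤ)) :=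
  ⟨S, 𝟙 S, inferInstance, inferInstance, hcov_id S, fun s => ⟨⊤, trivial, Fin n → ℤ, inferInstance,
    Module.Finite.iff_addGroup_fg.1 inferInstance, nonempty_grpIso_top S _⟩⟩

theorem exists_hom_family (G : Over S) [GrpObj G] [IsAffineHom G.hom] [Smooth G.hom] (n : ℕ) :
    ∃ (X : Over S) (υ : Red.DS S (Fin n → ℤ) ⊗ X ⟶ G),
      AutFam.RepresentsHom (Red.DS S (Fin n → ℤ)) G X υ ∧ Smooth X.hom := by
  obtain ⟨C⟩ := HomRep.nonempty_splitCover_of_fpqc (Red.DS S (Fin n → ℤ)) (𝟙 S) (hcov_id S)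
    fun s => ⟨⊤, trivial, Fin n → ℤ, inferInstance, nonempty_grpIso_top S _⟩
  obtain ⟨X, υ, h1, h2, -⟩ := HomRep.exists_representsHom (Red.DS S (Fin n → ℤ)) G ‹_› ‹_› C
  exact ⟨X, υ, h1, h2⟩

theorem exists_field_point {K : Type u} [Field K] [IsAlgClosed K] {Z : Scheme.{u}}
    (f : Z ⟶ Spec (CommRingCat.of K)) [LocallyOfFiniteType f] (U : Z.Opens) (hU : (U : Set Z).Nonempty) :
    ∃ z : Spec (CommRingCat.of K) ⟶ Z, z ≫ f = 𝟙 _ ∧ z (IsLocalRing.closedPoint K) ∈ U := by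
  haveI : JacobsonSpace Z := LocallyOfFiniteType.jacobsonSpace f
  obtain ⟨x, hxU, hxc⟩ := nonempty_inter_closedPoints hU U.2.isLocallyClosed
  exact ⟨((pointEquivClosedPoint f).symm ⟨x, hxc⟩).1, ((pointEquivClosedPoint f).symm ⟨x, hxc⟩).2,
    (pointOfClosedPoint_apply f x hxc _).symm ▸ hxU⟩

/-- The geometric fibres with a subtorus of rank `n` lie over an open set. -/
theorem exists_open (G : Over S) [GrpObj G] [IsAffineHom G.hom] [Smooth G.hom] (n : ℕ) :
    ∃ U : S.Opens, ∀ (K : Type u) [Field K] [IsAlgClosed K] (p : Spec (CommRingCat.of K) ⟶ S),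
      Has (Red.bc p G) n ↔ p (IsLocalRing.closedPoint K) ∈ U := by
  obtain ⟨X, υ, ⟨hfam, huniv⟩, hsm⟩ := exists_hom_family G n
  haveI := hsm
  haveI : IsMonHom (homOf υ) := isMonHom_homOf hfam
  haveI : IsAffineHom (Red.bc X.hom G).hom := MorphismProperty.pullback_snd (P := @IsAffineHom) _ _ inferInstance
  have hW := MonoLocus.isOpen_locus (homOf υ) (DescHom.isMultTypeFT_bc (isMultTypeFT_DS' S n) X.hom)
  let W : X.left.Opens := ⟨_, hW⟩
  haveI : UniversallyOpen X.hom := inferInstance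
  refine ⟨⟨X.hom '' (W : Set X.left), X.hom.isOpenMap _ W.2⟩, fun K _ _ p => ?_⟩
  have hmem : ∀ z : Spec (CommRingCat.of K) ⟶ X.left,
      z (IsLocalRing.closedPoint K) ∈ W ↔ Inj υ z := fun z =>
    ((TrivLocus.triv_field_iff (u := MonoLocus.kin (homOf υ)) z).symm).trans (ktriv_homOf_iff υ z)
  obtain ⟨e, he⟩ := RedCharZeroLib.exists_DS_bc p (Fin n → ℤ)
  haveI := he
  constructor
  · rintro ⟨i, hi, hm⟩
    haveI := hi
    haveI := hm
    let T : Over S := Over.mk p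
    let ψ : Red.bc T.hom (Red.DS S (Fin n → ℤ)) ⟶ Red.bc T.hom G := e.inv ≫ i
    haveI : IsMonHom ψ := inferInstanceAs (IsMonHom (e.inv ≫ i))
    haveI : Mono ψ := inferInstanceAs (Mono (e.inv ≫ i))
    obtain ⟨φ, hφ⟩ := exists_homOf_eq ψ
    haveI : IsMonHom (homOf φ) := hφ ▸ inferInstanceAs (IsMonHom ψ)
    obtain ⟨a, ha, -⟩ := huniv T φ (isHomFamily_of_isMonHom φ)
    have h1 : Inj φ (𝟙 T.left) := (ktriv_homOf_iff φ _).1 ((mono_iff_ktriv_id _).1 (hφ ▸ inferInstance))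
    rw [← ha, inj_whisker_iff, Category.id_comp] at h1
    refine ⟨a.left (IsLocalRing.closedPoint K), (hmem a.left).2 h1, ?_⟩
    rw [← Scheme.Hom.comp_apply, Over.w a]
    rfl
  · rintro ⟨x, hxW, hx⟩
    obtain ⟨y, hy1, -⟩ := Scheme.Pullback.exists_preimage_pullback (f := X.hom) (g := p) x
      (IsLocalRing.closedPoint K) hx
    obtain ⟨z, hz, hzW⟩ := exists_field_point (pullback.snd X.hom p) (pullback.fst X.hom p ⁻¹ᵁ W)
      ⟨y, by show pullback.fst X.hom p y ∈ W; rwa [hy1]⟩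
    let T : Over S := Over.mk p
    let a : T ⟶ X := Over.homMk (z ≫ pullback.fst X.hom p) (by
      rw [Category.assoc, pullback.condition, ← Category.assoc, hz]
      exact Category.id_comp p)
    have hi : Inj υ a.left := (hmem a.left).1 (by
      show (z ≫ pullback.fst X.hom p) _ ∈ W
      rw [Scheme.Hom.comp_apply]
      exact hzW)
    let φ := (Red.DS S (Fin n → ℤ) ◁ a) ≫ υ
    have hφ : AutFam.IsHomFamily _ G φ := fun Y g₁ g₂ t => by
      simp only [φ, ← Category.assoc, lift_whiskerLeft]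
      exact hfam Y g₁ g₂ (t ≫ a)
    haveI : IsMonHom (homOf φ) := isMonHom_homOf hφ
    haveI : Mono (homOf φ) := (mono_iff_ktriv_id _).2 ((ktriv_homOf_iff φ _).2
      ((inj_whisker_iff υ a _).2 (by rw [Category.id_comp]; exact hi)))
    exact ⟨e.hom ≫ homOf φ, inferInstanceAs (IsMonHom (e.hom ≫ homOf φ)), inferInstanceAs (Mono (e.hom ≫ homOf φ))⟩

variable {K : Type u} [Field K]

theorem has_iff (G : Over (Spec (CommRingCat.of K))) [GrpObj G] (n : ℕ) :
    Has G n ↔ ∃ i : sp K (TA K n) ⟶ G, IsMonHom i ∧ Mono i := by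
  obtain ⟨w, hw, hw'⟩ := TorusField.exists_DS_iso K (Fin n → ℤ)
  haveI := hw
  haveI := hw'
  constructor <;> rintro ⟨i, hi, hm⟩ <;> haveI := hi <;> haveI := hm
  · exact ⟨w.hom ≫ i, inferInstance, inferInstance⟩
  · exact ⟨w.inv ≫ i, inferInstance, inferInstance⟩

theorem has_mono {P : Scheme.{u}} {G G' : Over P} [GrpObj G] [GrpObj G'] (j : G ⟶ G') [IsMonHom j] [Mono j] {n : ℕ}
    (h : Has G n) : Has G' n := by
  obtain ⟨i, hi, hm⟩ := h
  haveI := hi; haveI := hm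
  exact ⟨i ≫ j, inferInstance, inferInstance⟩

/-- A torus over an algebraically closed field has a rank. -/
theorem exists_torus_rank [IsAlgClosed K] {T : Over (Spec (CommRingCat.of K))} [GrpObj T] (hT : Red.IsTorus T) :
    ∃ (r : ℕ) (v : sp K (TA K r) ≅ T), IsMonHom v.hom ∧ IsMonHom v.inv ∧
      topologicalKrullDim ↥T.left = r := by
  obtain ⟨r, v, hv, hv'⟩ := RedCharZeroLib.exists_laurent_iso hT
  refine ⟨r, v, hv, hv', ?_⟩
  let e := Scheme.homeoOfIso ((Over.forget _).mapIso v)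
  rw [← topologicalKrullDim_sp_TA (K := K) r]
  exact (IsHomeomorph.topologicalKrullDim_eq e e.isHomeomorph).symm

end Groth.Agent.RedRank
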