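import Groth.Agent.RedRankLib.Max
import Groth.Agent.HopfFFLib.Injective
import Mathlib.LinearAlgebra.FreeModule.PID

/-!
Subtori of commutative groups over a field: the greatest one contains all the others.
-/

set_option autoImplicit false
set_option maxHeartbeats 1000000

noncomputable section

universe u

open CategoryTheory CategoryTheory.Limits MonoidalCategory CartesianMonoidalCategory AlgebraicGeometry CoactBr
open scoped MonObj TensorProduct

namespace Groth.Agent.RedRank

attribute [local instance] CoactBr.braidedAlgSpecOf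

variable {K : Type u} [Field K]

/-- The image of a homomorphism out of a split torus is a split torus. -/
theorem exists_image_torus {n : ℕ} {G : Over (Spec (CommRingCat.of K))} [GrpObj G] [IsAffineHom G.hom]
    (u : sp K (TA K n) ⟶ G) [IsMonHom u] :
    ∃ (r : ℕ) (p : sp K (TA K n) ⟶ sp K (TA K r)) (i : sp K (TA K r) ⟶ G),
      IsMonHom p ∧ IsMonHom i ∧ Mono i ∧ p ≫ i = u := by
  classical
  haveI : IsAffine G.left := isAffine_of_isAffineHom G.hom
  obtain ⟨A, _, _, v, hv, hv'⟩ := HomCorr.exists_hopf G
  haveI := hv; haveI := hv'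
  obtain ⟨ψ, hψ⟩ := DiagRep.exists_pt (u ≫ v.inv)
  haveI : IsMonHom (pt ψ) := hψ ▸ inferInstance
  have h1 := DiagRep.counit_comp_of_isMonHom ψ
  have h2 : (Algebra.TensorProduct.map ψ ψ).comp (Bialgebra.comulAlgHom K A) =
      (Bialgebra.comulAlgHom K (TA K n)).comp ψ := by
    have hc := congrArg WithConv.ofConv (DiagRep.comul_comp_of_isMonHom ψ)
    refine AlgHom.ext fun a => ?_
    have e := DFunLike.congr_fun hc a
    simp only [WithConv.ofConv_toConv, AlgHom.convMul_apply] at e
    rw [AlgHom.comp_apply, AlgHom.comp_apply]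
    refine Eq.trans ?_ e.symm
    simp only [Bialgebra.comulAlgHom_apply]
    generalize CoalgebraStruct.comul (R := K) a = z
    induction z using TensorProduct.induction_on with
    | zero => simp
    | add x y hx hy => simp only [map_add, hx, hy]
    | tmul x y => simp [Algebra.TensorProduct.tmul_mul_tmul]
  let f : A →ₐc[K] TA K n := BialgHom.ofAlgHom ψ h1 h2
  let B := ψ.range
  have hsupp : ∀ x ∈ B, ∀ w : Multiplicative (Fin n → ℤ), x.coeff w ≠ 0 → MonoidAlgebra.single w (1 : K) ∈ B := by
    intro x hx w hw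
    let L : TA K n ⊗[K] TA K n →ₗ[K] TA K n :=
      TensorProduct.lift (LinearMap.mk₂ K (fun p q => q.coeff w • p)
        (fun p p' q => smul_add _ _ _) (fun c p q => smul_comm _ _ _)
        (fun p q q' => by simp [add_smul]) (fun c p q => by simp [mul_smul]))
    have hL : ∀ y : TA K n, L (CoalgebraStruct.comul (R := K) y) = y.coeff w • MonoidAlgebra.single w (1 : K) := fun y => by
      induction y using MonoidAlgebra.induction_on with
      | of g =>
        rw [MonoidAlgebra.of_apply, MonoidAlgebra.comul_single]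
        simp only [CommSemiring.comul_apply, TensorProduct.map_tmul, MonoidAlgebra.coeff_single]
        by_cases hg : g = w <;> simp [L, hg, MonoidAlgebra.lsingle_apply, Finsupp.single_apply]
      | add f g hf hg => simp [map_add, hf, hg, add_smul]
      | smul r f hf => simp [map_smul, hf, smul_smul]
    have hmem : L (CoalgebraStruct.comul (R := K) x) ∈ B := by
      obtain ⟨a, rfl⟩ := hx
      have e := DFunLike.congr_fun h2 a
      simp only [AlgHom.comp_apply, Bialgebra.comulAlgHom_apply] at e
      change L (CoalgebraStruct.comul (R := K) (ψ a)) ∈ B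
      rw [← e]
      generalize CoalgebraStruct.comul (R := K) a = z
      induction z using TensorProduct.induction_on with
      | zero => simp
      | add x y hx hy => simp only [map_add]; exact add_mem hx hy
      | tmul p q => exact B.smul_mem ⟨p, rfl⟩ _
    rw [hL] at hmem
    have h3 := B.smul_mem hmem (x.coeff w)⁻¹
    rwa [smul_smul, inv_mul_cancel₀ hw, one_smul] at h3
  let N : AddSubgroup (Fin n → ℤ) :=
    { carrier := {v | MonoidAlgebra.single (Multiplicative.ofAdd v) (1 : K) ∈ B}
      zero_mem' := by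
        show MonoidAlgebra.single (Multiplicative.ofAdd 0) (1 : K) ∈ B
        exact B.one_mem
      add_mem' := fun {a b} ha hb => by
        show MonoidAlgebra.single (Multiplicative.ofAdd (a + b)) (1 : K) ∈ B
        have := B.mul_mem ha hb
        rwa [MonoidAlgebra.single_mul_single, _root_.one_mul, ← ofAdd_add] at this
      neg_mem' := fun {a} ⟨y, hy⟩ => ⟨HopfAlgebraStruct.antipode (R := K) y, by
        show f (HopfAlgebraStruct.antipode (R := K) y) = _
        rw [HopfFF.map_antipode]
        show HopfAlgebraStruct.antipode (R := K) (ψ y) = _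
        rw [show ψ y = _ from hy, MonoidAlgebra.antipode_single]
        simp⟩ }
  obtain ⟨r, ⟨bN⟩⟩ := Submodule.nonempty_basis_of_pid (Pi.basisFun ℤ (Fin n)) N.toIntSubmodule
  let φ : (Fin r → ℤ) →+ (Fin n → ℤ) :=
    (N.toIntSubmodule.subtype.comp bN.equivFun.symm.toLinearMap).toAddMonoidHom
  have hφ : Function.Injective φ := Subtype.val_injective.comp bN.equivFun.symm.injective
  have hinj : Function.Injective (tMap (k := K) φ) := MonoidAlgebra.mapDomain_injective hφ
  have hφN : ∀ c, φ c ∈ N := fun c => (bN.equivFun.symm c).2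
  have hle : B ≤ (tMap (k := K) φ).range := fun x hx => by
    rw [← MonoidAlgebra.sum_coeff_single x]
    refine Subalgebra.sum_mem _ fun w hw => ?_
    have hwN : w.toAdd ∈ N := hsupp x hx w (Finsupp.mem_support_iff.1 hw)
    refine ⟨MonoidAlgebra.single (Multiplicative.ofAdd (bN.equivFun ⟨w.toAdd, hwN⟩)) (x.coeff w), ?_⟩
    show MonoidAlgebra.mapDomain φ.toMultiplicative _ = _
    rw [MonoidAlgebra.mapDomain_single]
    congr 1
    show Multiplicative.ofAdd (φ (bN.equivFun ⟨w.toAdd, hwN⟩)) = w
    simp [φ]
  let E := AlgEquiv.ofInjective (tMap (k := K) φ) hinj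
  let ψ' : A →ₐ[K] TA K r := E.symm.toAlgHom.comp (ψ.codRestrict _ fun a => hle ⟨a, rfl⟩)
  have hfac : ∀ a, tMap φ (ψ' a) = ψ a := fun a =>
    congrArg Subtype.val (E.apply_symm_apply (ψ.codRestrict _ (fun a => hle ⟨a, rfl⟩) a))
  have hsurj : Function.Surjective ψ' := fun y => by
    have hy : tMap φ y ∈ B := by
      induction y using MonoidAlgebra.induction_on with
      | of g =>
        obtain ⟨c, rfl⟩ := Multiplicative.ofAdd.surjective g
        rw [MonoidAlgebra.of_apply, tMap_single]
        exact hφN c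
      | add p q hp hq => rw [map_add]; exact add_mem hp hq
      | smul c p hp => rw [map_smul]; exact B.smul_mem hp c
    obtain ⟨a, ha⟩ := hy
    exact ⟨a, hinj ((hfac a).trans ha)⟩
  haveI := isMonHom_tMap (k := K) φ
  have hφ1 := DiagRep.counit_comp_of_isMonHom (tMap (k := K) φ)
  have hφ2 : ∀ y, Algebra.TensorProduct.map (tMap (k := K) φ) (tMap (k := K) φ) (CoalgebraStruct.comul (R := K) y) =
      CoalgebraStruct.comul (R := K) (tMap φ y) := fun y =>
    CoalgHomClass.map_comp_comul_apply (MonoidAlgebra.mapDomainBialgHom (R := K) φ.toMultiplicative) y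
  haveI : IsMonHom (pt ψ') := by
    refine DiagRep.isMonHom_pt ψ' (AlgHom.ext fun a => ?_) (AlgHom.ext fun a => ?_)
    · rw [AlgHom.comp_apply, ← DFunLike.congr_fun hφ1 (ψ' a), AlgHom.comp_apply, hfac]
      exact DFunLike.congr_fun h1 a
    · simp only [AlgHom.comp_apply, Bialgebra.comulAlgHom_apply]
      have hi : Function.Injective (Algebra.TensorProduct.map (tMap (k := K) φ) (tMap (k := K) φ)) := by
        intro a b hab
        have e : ∀ z, Algebra.TensorProduct.map (tMap (k := K) φ) (tMap (k := K) φ) z =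
            LinearMap.rTensor _ (tMap (k := K) φ).toLinearMap (LinearMap.lTensor _ (tMap (k := K) φ).toLinearMap z) := by
          intro z
          induction z using TensorProduct.induction_on with
          | zero => simp
          | add x y hx hy => simp only [map_add, hx, hy]
          | tmul x y => rfl
        rw [e, e] at hab
        exact Module.Flat.lTensor_preserves_injective_linearMap _ hinj
          (Module.Flat.rTensor_preserves_injective_linearMap _ hinj hab)
      apply hi
      have e := DFunLike.congr_fun h2 a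
      simp only [AlgHom.comp_apply, Bialgebra.comulAlgHom_apply] at e
      rw [hφ2, hfac, ← e]
      generalize CoalgebraStruct.comul (R := K) a = z
      induction z using TensorProduct.induction_on with
      | zero => simp
      | add x y hx hy => simp only [map_add, hx, hy]
      | tmul x y => simp [hfac]
  haveI : Mono (pt ψ') := DiagRep.mono_of_isClosedImmersion _ (by
    rw [pt_left]
    exact IsClosedImmersion.spec_of_surjective _ hsurj)
  refine ⟨r, pt (tMap (k := K) φ), pt ψ' ≫ v.hom, inferInstance, inferInstance, inferInstance, ?_⟩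
  rw [← Category.assoc, ← pt_comp, show (tMap (k := K) φ).comp ψ' = ψ from AlgHom.ext hfac, ← hψ, Category.assoc,
    Iso.inv_hom_id, Category.comp_id]

variable {G : Over (Spec (CommRingCat.of K))} [GrpObj G] [IsCommMonObj G] [IsAffineHom G.hom]

/-- Two tori in a commutative group lie in a third one. -/
theorem exists_join {a b : ℕ} (i₁ : sp K (TA K a) ⟶ G) [IsMonHom i₁] (i₂ : sp K (TA K b) ⟶ G) [IsMonHom i₂] :
    ∃ (r : ℕ) (i : sp K (TA K r) ⟶ G) (p₁ : sp K (TA K a) ⟶ sp K (TA K r)) (p₂ : sp K (TA K b) ⟶ sp K (TA K r)),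
      IsMonHom i ∧ Mono i ∧ IsMonHom p₁ ∧ IsMonHom p₂ ∧ p₁ ≫ i = i₁ ∧ p₂ ≫ i = i₂ := by
  let inl : (Fin a → ℤ) →+ (Fin (a + b) → ℤ) :=
    { toFun := fun v => Fin.append v 0
      map_zero' := funext fun j => by refine Fin.addCases (fun i => ?_) (fun i => ?_) j <;> simp
      map_add' := fun v w => funext fun j => by refine Fin.addCases (fun i => ?_) (fun i => ?_) j <;> simp }
  let inr : (Fin b → ℤ) →+ (Fin (a + b) → ℤ) :=
    { toFun := fun v => Fin.append 0 v
      map_zero' := funext fun j => by refine Fin.addCases (fun i => ?_) (fun i => ?_) j <;> simp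
      map_add' := fun v w => funext fun j => by refine Fin.addCases (fun i => ?_) (fun i => ?_) j <;> simp }
  let res₁ : (Fin (a + b) → ℤ) →+ (Fin a → ℤ) :=
    { toFun := fun v i => v (Fin.castAdd b i), map_zero' := rfl, map_add' := fun _ _ => rfl }
  let res₂ : (Fin (a + b) → ℤ) →+ (Fin b → ℤ) :=
    { toFun := fun v i => v (Fin.natAdd a i), map_zero' := rfl, map_add' := fun _ _ => rfl }
  haveI := isMonHom_tMap (k := K) inl
  haveI := isMonHom_tMap (k := K) inr
  haveI := isMonHom_tMap (k := K) res₁
  haveI := isMonHom_tMap (k := K) res₂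
  let u : sp K (TA K (a + b)) ⟶ G := (pt (tMap (k := K) inl) ≫ i₁) * (pt (tMap (k := K) inr) ≫ i₂)
  haveI : IsMonHom u := isMonHom_of_mul (X := sp K (TA K (a + b))) (Y := G) u fun Z x y => by
    simp only [u, MonObj.comp_mul]
    rw [MultLift.hom_mul (pt (tMap (k := K) inl) ≫ i₁), MultLift.hom_mul (pt (tMap (k := K) inr) ≫ i₂)]
    exact mul_mul_mul_comm _ _ _ _
  obtain ⟨r, p, i, hp, hi, hm, hpi⟩ := exists_image_torus u
  haveI := hp; haveI := hi; haveI := hm
  have e₁ : pt (tMap (k := K) res₁) ≫ u = i₁ := by
    rw [MonObj.comp_mul, ← Category.assoc, ← Category.assoc, ← pt_comp, ← pt_comp, tMap_comp, tMap_comp,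
      show res₁.comp inl = AddMonoidHom.id _ from AddMonoidHom.ext fun v => funext fun j => by simp [res₁, inl],
      show res₁.comp inr = 0 from AddMonoidHom.ext fun v => funext fun j => by simp [res₁, inr],
      tMap_id, pt_id, Category.id_comp, ← one_eq_tMap, MonObj.one_comp, _root_.mul_one]
  have e₂ : pt (tMap (k := K) res₂) ≫ u = i₂ := by
    rw [MonObj.comp_mul, ← Category.assoc, ← Category.assoc, ← pt_comp, ← pt_comp, tMap_comp, tMap_comp,
      show res₂.comp inl = 0 from AddMonoidHom.ext fun v => funext fun j => by simp [res₂, inl],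
      show res₂.comp inr = AddMonoidHom.id _ from AddMonoidHom.ext fun v => funext fun j => by simp [res₂, inr],
      tMap_id, pt_id, Category.id_comp, ← one_eq_tMap, MonObj.one_comp, _root_.one_mul]
  exact ⟨r, i, pt (tMap (k := K) res₁) ≫ p, pt (tMap (k := K) res₂) ≫ p, hi, hm, inferInstance, inferInstance,
    by rw [Category.assoc, hpi, e₁], by rw [Category.assoc, hpi, e₂]⟩

/-- A torus of greatest rank receives every torus. -/
theorem exists_factor_of_top {N : ℕ} (i : sp K (TA K N) ⟶ G) [IsMonHom i] [Mono i]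
    (hN : ∀ m, Has G m → m ≤ N) {m : ℕ} (j : sp K (TA K m) ⟶ G) [IsMonHom j] :
    ∃ f : sp K (TA K m) ⟶ sp K (TA K N), f ≫ i = j := by
  obtain ⟨r, i', p₁, p₂, hi, hm, hp₁, hp₂, e₁, e₂⟩ := exists_join i j
  haveI := hi; haveI := hm; haveI := hp₁
  haveI : Mono (p₁ ≫ i') := e₁.symm ▸ inferInstance
  haveI : Mono p₁ := mono_of_mono p₁ i'
  obtain ⟨hle, hiso⟩ := le_and_isIso_of_mono p₁
  haveI := hiso (le_antisymm hle (hN r ((has_iff G r).2 ⟨i', hi, hm⟩)))
  exact ⟨p₂ ≫ inv p₁, by rw [Category.assoc, ← e₁, IsIso.inv_hom_id_assoc, e₂]⟩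

end Groth.Agent.RedRank
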