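import Groth.Agent.DiagRepLib.Scheme
import Groth.Agent.DiagHopfLib.MonAlg
import Groth.Prelude

/-!
Maps of split tori are maps of lattices.
-/

set_option autoImplicit false

universe u

open CategoryTheory CategoryTheory.Limits MonoidalCategory CartesianMonoidalCategory AlgebraicGeometry CoactBr
open scoped MonObj

noncomputable section

namespace Groth.Agent.RedRank

attribute [local instance] CoactBr.braidedAlgSpecOf

variable {k : Type u} [Field k]

/-- The coordinate ring of a split torus. -/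
abbrev TA (k : Type u) [Field k] (n : ℕ) : Type u := MonoidAlgebra k (Multiplicative (Fin n → ℤ))

/-- The map of coordinate rings of an additive map. -/
abbrev tMap {m n : ℕ} (φ : (Fin m → ℤ) →+ (Fin n → ℤ)) : TA k m →ₐ[k] TA k n :=
  (MonoidAlgebra.mapDomainBialgHom (R := k) φ.toMultiplicative).toAlgHom

theorem tMap_single {m n : ℕ} (φ : (Fin m → ℤ) →+ (Fin n → ℤ)) (v : Fin m → ℤ) :
    tMap (k := k) φ (MonoidAlgebra.single (Multiplicative.ofAdd v) 1) =
      MonoidAlgebra.single (Multiplicative.ofAdd (φ v)) 1 := by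
  simp [tMap]

theorem tMap_inj {m n : ℕ} {φ ψ : (Fin m → ℤ) →+ (Fin n → ℤ)} (h : tMap (k := k) φ = tMap ψ) : φ = ψ := by
  refine AddMonoidHom.ext fun v => ?_
  have e := DFunLike.congr_fun h (MonoidAlgebra.single (Multiplicative.ofAdd v) 1)
  rw [tMap_single, tMap_single] at e
  exact Multiplicative.ofAdd.injective (MonoidAlgebra.single_left_injective (R := k) one_ne_zero e)

theorem tMap_comp {l m n : ℕ} (φ : (Fin l → ℤ) →+ (Fin m → ℤ)) (ψ : (Fin m → ℤ) →+ (Fin n → ℤ)) :
    (tMap (k := k) ψ).comp (tMap φ) = tMap (ψ.comp φ) := by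
  refine MonoidAlgebra.algHom_ext (fun v => ?_) (Subsingleton.elim _ _)
  obtain ⟨v, rfl⟩ := Multiplicative.ofAdd.surjective v
  rw [AlgHom.comp_apply, tMap_single, tMap_single, tMap_single]
  rfl

theorem tMap_id {n : ℕ} : tMap (k := k) (AddMonoidHom.id (Fin n → ℤ)) = AlgHom.id k (TA k n) := by
  refine MonoidAlgebra.algHom_ext (fun v => ?_) (Subsingleton.elim _ _)
  obtain ⟨v, rfl⟩ := Multiplicative.ofAdd.surjective v
  rw [tMap_single]
  rfl

theorem isMonHom_tMap {m n : ℕ} (φ : (Fin m → ℤ) →+ (Fin n → ℤ)) : IsMonHom (pt (tMap (k := k) φ)) :=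
  SekSuwa.isMonHom_specHom (MonoidAlgebra.mapDomainBialgHom (R := k) φ.toMultiplicative)

theorem one_eq_tMap {m n : ℕ} : (1 : sp k (TA k n) ⟶ sp k (TA k m)) = pt (tMap (k := k) 0) := by
  rw [← Groth.Agent.DiagRep.pt_one]
  congr 1
  refine MonoidAlgebra.algHom_ext (fun v => ?_) (Subsingleton.elim _ _)
  obtain ⟨v, rfl⟩ := Multiplicative.ofAdd.surjective v
  rw [tMap_single]
  simp [Algebra.ofId_apply, MonoidAlgebra.one_def]

/-- Homomorphisms of split tori are the maps of the character lattices. -/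
theorem exists_tMap {m n : ℕ} (f : sp k (TA k n) ⟶ sp k (TA k m)) [IsMonHom f] :
    ∃ φ : (Fin m → ℤ) →+ (Fin n → ℤ), f = pt (tMap φ) := by
  obtain ⟨χ, rfl⟩ := Groth.Agent.DiagRep.exists_pt f
  have h1 := Groth.Agent.DiagRep.counit_comp_of_isMonHom χ
  have h2 : (Algebra.TensorProduct.map χ χ).comp (Bialgebra.comulAlgHom k (TA k m)) =
      (Bialgebra.comulAlgHom k (TA k n)).comp χ := by
    have h := congrArg WithConv.ofConv (Groth.Agent.DiagRep.comul_comp_of_isMonHom χ)
    refine MonoidAlgebra.algHom_ext (fun v => ?_) (Subsingleton.elim _ _)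
    have e := DFunLike.congr_fun h (MonoidAlgebra.single v 1)
    simp only [WithConv.ofConv_toConv] at e
    rw [e, AlgHom.comp_apply]
    simp [AlgHom.convMul_apply]
  obtain ⟨g, hg⟩ := Groth.Agent.DiagHopf.exists_eq_mapDomainBialgHom (R := k)
    (fun e he => IsIdempotentElem.iff_eq_zero_or_one.1 he) (BialgHom.ofAlgHom χ h1 h2)
  exact ⟨MonoidHom.toAdditive g, congrArg pt (congrArg BialgHom.toAlgHom hg)⟩

end Groth.Agent.RedRank
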